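import Groth.Agent.ModWLib.Transfer
import Groth.Agent.ARLib.Criterion
import Groth.Agent.ARLib.Adapted

/-! exact linear functors reflecting zero maps reflect being adic up to translation -/

set_option autoImplicit false
set_option linter.style.haveILetI false

universe w v v' u u'

open CategoryTheory CategoryTheory.Limits Opposite ARSys

namespace Groth.Agent.ModWLib

set_option backward.isDefEq.respectTransparency.types false

variable {A : Type w} [CommRing A] {C : Type u} [Category.{v} C] [Abelian C] [Linear A C]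

/-- a class of objects closed under kernels and cokernels -/
structure KerCokerClosed (P : C → Prop) : Prop where
  kernel : ∀ {X Y : C} (f : X ⟶ Y), P X → P Y → P (Limits.kernel f)
  cokernel : ∀ {X Y : C} (f : X ⟶ Y), P X → P Y → P (Limits.cokernel f)
  iso : ∀ {X Y : C}, (X ≅ Y) → P X → P Y

theorem KerCokerClosed.image {P : C → Prop} (hP : KerCokerClosed P) {X Y : C} (f : X ⟶ Y) (hX : P X) (hY : P Y) :
    P ((imageSubobject f : Subobject Y) : C) := by
  have h1 : P (Limits.kernel (cokernel.π f)) := hP.kernel _ hY (hP.cokernel f hX hY)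
  exact hP.iso ((Abelian.imageIsoImage f) ≪≫ (imageSubobjectIso f).symm) h1

theorem KerCokerClosed.exists_quot_span {P : C → Prop} (hP : KerCokerClosed P) {X : C} (hX : P X) (s : Finset A) :
    ∃ (Q : C) (p : X ⟶ Q), P Q ∧ IsQuot (Ideal.span (s : Set A)) p := by
  classical
  induction s using Finset.induction with
  | empty =>
    refine ⟨X, 𝟙 X, hX, fun a ha => ?_, fun T φ _ => ⟨φ, Category.id_comp _, fun ψ hψ => by simpa using hψ⟩⟩
    simp only [Finset.coe_empty, Ideal.span_empty, Ideal.mem_bot] at ha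
    rw [ha, zero_smul]
  | @insert a s _ ih =>
    obtain ⟨Q, p, hQ, hp⟩ := ih
    haveI : Epi p := ARLib.IsQuot.epi hp
    let π := cokernel.π (a • 𝟙 Q : Q ⟶ Q)
    refine ⟨_, p ≫ π, hP.cokernel _ hQ hQ, fun b hb => ?_, fun T φ hφ => ?_⟩
    · rw [Finset.coe_insert, Ideal.mem_span_insert] at hb
      obtain ⟨c, t, ht, rfl⟩ := hb
      have h1 : a • π = 0 := by
        have h := cokernel.condition (a • 𝟙 Q : Q ⟶ Q)
        rwa [Linear.smul_comp, Category.id_comp] at h
      rw [← cancel_epi π, Linear.comp_smul, Category.comp_id, comp_zero, add_smul, mul_smul, h1, smul_zero, zero_add]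
      have h2 := congrArg (· ≫ π) (hp.1 t ht)
      simpa [Linear.smul_comp] using h2
    · obtain ⟨ψ, hψ, -⟩ := hp.2 T φ (fun b hb => hφ b (Ideal.span_mono (by simp) hb))
      have h1 : (a • 𝟙 Q) ≫ ψ = 0 := by
        rw [← cancel_epi p, comp_zero, Linear.smul_comp, Category.id_comp, Linear.comp_smul, hψ]
        exact hφ a (Ideal.subset_span (by simp))
      refine ⟨cokernel.desc _ ψ h1, by show (p ≫ π) ≫ _ = φ; rw [Category.assoc, cokernel.π_desc, hψ], fun χ hχ => ?_⟩
      rw [← cancel_epi π, ← cancel_epi p, cokernel.π_desc, hψ, ← Category.assoc]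
      exact hχ

theorem KerCokerClosed.of_isQuot {P : C → Prop} (hP : KerCokerClosed P) {I : Ideal A} (hI : I.FG) {X Q : C}
    (hX : P X) {p : X ⟶ Q} (hp : IsQuot I p) : P Q := by
  obtain ⟨s, rfl⟩ := hI
  obtain ⟨Q', p', hQ', hp'⟩ := hP.exists_quot_span hX s
  obtain ⟨a, ha, -⟩ := hp'.2 Q p (ARLib.IsQuot.homKilledBy hp)
  obtain ⟨b, hb, -⟩ := hp.2 Q' p' (ARLib.IsQuot.homKilledBy hp')
  haveI : Epi p := ARLib.IsQuot.epi hp
  haveI : Epi p' := ARLib.IsQuot.epi hp'
  exact hP.iso { hom := a, inv := b, hom_inv_id := (cancel_epi p').1 (by rw [reassoc_of% ha, hb, Category.comp_id]),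
                 inv_hom_id := (cancel_epi p).1 (by rw [reassoc_of% hb, ha, Category.comp_id]) } hQ'

/-- an adic system up to translation with components in a closed class receives such an adic system -/
theorem exists_adic_of_strict {P : C → Prop} (hP : KerCokerClosed P) {J : Ideal A} (hJ : J.FG) {Z : PS C}
    (hZ : IsStrict Z) (kZ : TermKilled J Z) (h : IsARAdic J Z) (hPZ : ∀ n : ℕ, P (Z.obj (op n))) :
    ∃ (Y : PS C) (w : Y ⟶ Z), IsAdic J Y ∧ (∀ n : ℕ, P (Y.obj (op n))) ∧ IsARIso w := by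
  obtain ⟨r, hr⟩ := ARLib.factors_of_isARAdic h
  obtain ⟨Y, q, hq, hY, w, hw⟩ := ARLib.exists_adic_quot (Or.inl hJ) hZ kZ hr
  exact ⟨Y, w, hY, fun n => hP.of_isQuot (Submodule.FG.pow hJ (n + 1)) (hPZ (n + r)) (hq n), hw⟩

variable {ι : Type} [Finite ι] {D : ι → Type u'} [∀ i, Category.{v'} (D i)] [∀ i, Abelian (D i)]
  [∀ i, Linear A (D i)] (G : ∀ i, C ⥤ D i) [∀ i, (G i).Additive] [∀ i, (G i).Linear A]
  [∀ i, PreservesFiniteLimits (G i)] [∀ i, PreservesFiniteColimits (G i)]

/-- exact linear functors jointly reflecting zero maps reflect being adic up to translation -/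
theorem exists_adic_of_reflect {P : C → Prop} (hP : KerCokerClosed P)
    (hrefl : ∀ {X Y : C} (f : X ⟶ Y), P X → P Y → (∀ i, (G i).map f = 0) → f = 0)
    {J : Ideal A} (hJ : J.FG) {X : PS C} (kX : TermKilled J X) (hPX : ∀ n : ℕ, P (X.obj (op n)))
    (h : ∀ i, IsARAdic J (X ⋙ G i)) :
    ∃ (Y : PS C) (v : Y ⟶ X), IsAdic J Y ∧ (∀ n : ℕ, P (Y.obj (op n))) ∧ IsARIso v := by
  have hML : IsMLAR X := by
    choose r hr using fun i => ARLib.isMLAR_of_isARAdic (h i)
    obtain ⟨R, hR⟩ := Set.Finite.bddAbove (Set.finite_range r)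
    refine ⟨R, fun s hs n => le_antisymm ?_ ?_⟩
    · refine imageSubobject_le _ (tr X (show n + R ≤ n + s by omega) ≫ factorThruImageSubobject (shiftMap X R n)) ?_
      refine (Category.assoc _ _ _).trans ((congrArg (tr X (show n + R ≤ n + s by omega) ≫ ·) (imageSubobject_arrow_comp _)).trans ?_)
      exact ARLib.tr_tr X _ _
    · have e0 : shiftMap X R n ≫ cokernel.π (shiftMap X s n) = 0 := by
        refine hrefl _ (hPX _) (hP.cokernel _ (hPX _) (hPX _)) fun i => ?_
        have e1 : imageSubobject (shiftMap (X ⋙ G i) s n) = imageSubobject (shiftMap (X ⋙ G i) R n) :=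
          (hr i s ((hR ⟨i, rfl⟩).trans hs) n).trans (hr i R (hR ⟨i, rfl⟩) n).symm
        have e2 : shiftMap (X ⋙ G i) s n ≫ (G i).map (cokernel.π (shiftMap X s n)) = 0 := by
          change (G i).map (shiftMap X s n) ≫ _ = 0
          rw [← Functor.map_comp, cokernel.condition, Functor.map_zero]
        have e3 : (imageSubobject (shiftMap (X ⋙ G i) s n)).arrow ≫ (G i).map (cokernel.π (shiftMap X s n)) = 0 := by
          rw [← cancel_epi (factorThruImageSubobject (shiftMap (X ⋙ G i) s n)), ← Category.assoc,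
            imageSubobject_arrow_comp, comp_zero]
          exact e2
        rw [e1] at e3
        rw [Functor.map_comp]
        change shiftMap (X ⋙ G i) R n ≫ _ = 0
        rw [← imageSubobject_arrow_comp (shiftMap (X ⋙ G i) R n), Category.assoc]
        exact (congrArg (factorThruImageSubobject _ ≫ ·) e3).trans comp_zero
      refine imageSubobject_le _ (Abelian.monoLift (imageSubobject (shiftMap X s n)).arrow (shiftMap X R n) ?_)
        (Abelian.monoLift_comp _ _ _)
      have e4 : shiftMap X s n ≫ cokernel.π (imageSubobject (shiftMap X s n)).arrow = 0 := by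
        conv_lhs => arg 1; rw [← imageSubobject_arrow_comp (shiftMap X s n)]
        exact (Category.assoc _ _ _).trans ((congrArg (_ ≫ ·) (cokernel.condition _)).trans comp_zero)
      rw [← cokernel.π_desc (shiftMap X s n) _ e4, ← Category.assoc, e0, zero_comp]
  obtain ⟨r, hr⟩ := hML
  let Z := ARLib.imgSys X r
  have hZs : IsStrict Z := ARLib.imgSys_strict hr
  have hι : IsARIso (ARLib.imgι X r) := ARLib.imgι_isARIso X r
  have hPZ : ∀ n : ℕ, P (Z.obj (op n)) := fun n => hP.image _ (hPX _) (hPX _)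
  have kZ : TermKilled J Z := fun n => ARLib.killedBy_of_mono (kX n) ((ARLib.imgι X r).app (op n))
  have hGZ : ∀ i, ∃ k : ℕ, 0 < k ∧ ∀ n : ℕ, SubLEIdeal (J ^ (n - k)) (Fker (Z ⋙ G i) n) := fun i => by
    have kGZ : TermKilled J (Z ⋙ G i) := termKilled_map kZ
    have hGs : IsStrict (Z ⋙ G i) := fun n m hnm => by
      haveI := hZs n m hnm
      exact inferInstanceAs (Epi ((G i).map (tr Z hnm)))
    obtain ⟨t, ht⟩ := ARLib.factors_of_isARAdic (h i)
    obtain ⟨t', ht'⟩ := ARLib.factors_transfer (Functor.whiskerRight (ARLib.imgι X r) (G i)) (isARIso_map (G i) hι) ht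
    exact (ARLib.isARAdic_iff_fker (Or.inl hJ) hGs kGZ).1
      (ARLib.isARAdic_of_factors (Or.inl hJ) kGZ (ARLib.isMLAR_of_isStrict hGs) ht')
  choose k hk0 hk using hGZ
  obtain ⟨K, hK⟩ := Set.Finite.bddAbove (Set.finite_range k)
  have hZ : IsARAdic J Z := (ARLib.isARAdic_iff_fker (Or.inl hJ) hZs kZ).2 ⟨K + 1, Nat.succ_pos _, fun n T φ hφ => by
    obtain ⟨Q, p, hp⟩ := ARLib.exists_isQuot (J := J) (Or.inl hJ) (n - (K + 1)) (Z.obj (op n))
    obtain ⟨ψ, hψ, -⟩ := hp.2 T φ hφ
    have e0 : (Fker Z n).arrow ≫ p = 0 := by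
      refine hrefl _ ?_ (hP.of_isQuot (Submodule.FG.pow hJ _) (hPZ n) hp) fun i => ?_
      · cases n with
        | zero => exact hP.iso (asIso (⊤ : Subobject (Z.obj (op 0))).arrow).symm (hPZ 0)
        | succ l => exact hP.iso (kernelSubobjectIso (tr Z (Nat.le_succ l))).symm (hP.kernel _ (hPZ _) (hPZ _))
      have hkill : HomKilledBy (J ^ (n - k i)) ((G i).map p) := fun a ha => by
        rw [← Functor.map_smul, (ARLib.IsQuot.homKilledBy hp) a
          (Ideal.pow_le_pow_right (by have := hK ⟨i, rfl⟩; omega) ha), Functor.map_zero]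
      have e1 := hk i n _ _ hkill
      rw [Functor.map_comp]
      cases n with
      | zero =>
        change (⊤ : Subobject ((G i).obj (Z.obj (op 0)))).arrow ≫ (G i).map p = 0 at e1
        rw [ARLib.top_arrow_comp_eq_zero_iff] at e1
        rw [e1, comp_zero]
      | succ l =>
        have e2 : (G i).map (Fker Z (l + 1)).arrow ≫ (G i).map (tr Z (Nat.le_succ l)) = 0 := by
          rw [← Functor.map_comp]
          exact (congrArg (G i).map (kernelSubobject_arrow_comp _)).trans (Functor.map_zero _ _ _)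
        rw [← factorThruKernelSubobject_comp_arrow (tr (Z ⋙ G i) (Nat.le_succ l)) ((G i).map (Fker Z (l + 1)).arrow) e2,
          Category.assoc]
        exact (congrArg (_ ≫ ·) e1).trans comp_zero
    rw [← hψ, ← Category.assoc, e0, zero_comp]⟩
  obtain ⟨Y, w, hY, hYP, hw⟩ := exists_adic_of_strict hP hJ hZs kZ hZ hPZ
  exact ⟨Y, w ≫ ARLib.imgι X r, hY, hYP, ARLib.isARIso_comp hw hι⟩

end Groth.Agent.ModWLib
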