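import Groth.Agent.ModWLib.Ext
import Groth.Agent.ModWLib.Reflect

/-! constructible sheaves of modules are closed under kernels, cokernels and extensions -/

set_option autoImplicit false
set_option linter.style.haveILetI false
set_option linter.unusedSectionVars false

universe u

open CategoryTheory CategoryTheory.Limits AlgebraicGeometry Opposite Topology Groth.Agent.EtFound

namespace Groth.Agent.ModWLib

set_option backward.isDefEq.respectTransparency.types false

variable {Λ : Type (u + 1)} [CommRing Λ] {X : Scheme.{u}}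

/-- a local-constancy argument on common strata gives constructibility -/
theorem isConstructible_of_two {F G H : EtModW.Mod Λ X} (hF : EtModW.IsConstructible Λ F)
    (hG : EtModW.IsConstructible Λ G)
    (h : ∀ (T : Scheme.{u}) (g : T ⟶ X), EtModW.IsFTLocConst Λ ((EtModW.pull Λ g).obj F) →
      EtModW.IsFTLocConst Λ ((EtModW.pull Λ g).obj G) → EtModW.IsFTLocConst Λ ((EtModW.pull Λ g).obj H)) :
    EtModW.IsConstructible Λ H := by
  intro U hU
  obtain ⟨n, E, hE, hc, hu⟩ := exists_pieces (hF U hU)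
  obtain ⟨m, E', hE', hc', hu'⟩ := exists_pieces (hG U hU)
  refine adaptedStrata_of_cover U.2.isLocallyClosed (fun p : Fin n × Fin m => E p.1 ∩ E' p.2)
    (fun p => ?_) (fun p => ?_) fun x hx => ?_
  · obtain ⟨T₁, g₁, hg₁, hr₁, hT₁⟩ := hE p.1
    obtain ⟨T₂, g₂, hg₂, hr₂, hT₂⟩ := hE' p.2
    haveI : IsImmersion (pullback.fst g₁ g₂) := MorphismProperty.pullback_fst _ _ hg₂
    refine ⟨_, pullback.fst g₁ g₂ ≫ g₁, inferInstance, ?_, h _ _ ?_ ?_⟩
    · rw [Scheme.Hom.comp_base, TopCat.coe_comp, Set.range_comp]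
      erw [Scheme.Pullback.range_fst]
      rw [Set.image_preimage_eq_range_inter, hr₁, hr₂]
    · exact isFTLocConst_of_iso ((pullCompMod Λ _ g₁).app F).symm (isFTLocConst_pull _ hT₁)
    · rw [pullback.condition]
      exact isFTLocConst_of_iso ((pullCompMod Λ _ g₂).app G).symm (isFTLocConst_pull _ hT₂)
  · rw [Set.preimage_inter]
    exact (hc p.1).inter (hc' p.2)
  · obtain ⟨i, hi⟩ := Set.mem_iUnion.1 (hu.ge hx)
    obtain ⟨j, hj⟩ := Set.mem_iUnion.1 (hu'.ge hx)
    exact Set.mem_iUnion.2 ⟨(i, j), hi, hj⟩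

variable [IsNoetherianRing Λ]

theorem isFTLocConst_kernel {F G : EtModW.Mod Λ X} (φ : F ⟶ G) (hF : EtModW.IsFTLocConst Λ F)
    (hG : EtModW.IsFTLocConst Λ G) : EtModW.IsFTLocConst Λ (kernel φ) :=
  isFTLocConst_of_kernel (S := ShortComplex.mk (kernel.ι φ) φ (kernel.condition φ))
    (ShortComplex.exact_of_f_is_kernel _ (kernelIsKernel φ)) hF hG

theorem isFTLocConst_cokernel {F G : EtModW.Mod Λ X} (φ : F ⟶ G) (hF : EtModW.IsFTLocConst Λ F)
    (hG : EtModW.IsFTLocConst Λ G) : EtModW.IsFTLocConst Λ (cokernel φ) :=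
  isFTLocConst_of_cokernel (S := ShortComplex.mk φ (cokernel.π φ) (cokernel.condition φ))
    (ShortComplex.exact_of_g_is_cokernel _ (cokernelIsCokernel φ)) hF hG

variable (Λ X) in
/-- finite type locally constant sheaves are closed under kernels and cokernels -/
theorem kerCokerClosed_isFTLocConst : KerCokerClosed (fun F : EtModW.Mod Λ X => EtModW.IsFTLocConst Λ F) :=
  ⟨isFTLocConst_kernel, isFTLocConst_cokernel, fun e h => isFTLocConst_of_iso e h⟩

theorem isConstructible_kernel {F G : EtModW.Mod Λ X} (φ : F ⟶ G) (hF : EtModW.IsConstructible Λ F)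
    (hG : EtModW.IsConstructible Λ G) : EtModW.IsConstructible Λ (kernel φ) :=
  isConstructible_of_two hF hG fun _ g h1 h2 => isFTLocConst_of_iso (PreservesKernel.iso (EtModW.pull Λ g) φ).symm
    (isFTLocConst_kernel ((EtModW.pull Λ g).map φ) h1 h2)

theorem isConstructible_cokernel {F G : EtModW.Mod Λ X} (φ : F ⟶ G) (hF : EtModW.IsConstructible Λ F)
    (hG : EtModW.IsConstructible Λ G) : EtModW.IsConstructible Λ (cokernel φ) :=
  isConstructible_of_two hF hG fun _ g h1 h2 => isFTLocConst_of_iso (PreservesCokernel.iso (EtModW.pull Λ g) φ).symm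
    (isFTLocConst_cokernel ((EtModW.pull Λ g).map φ) h1 h2)

theorem isConstructible_extension {S : ShortComplex (EtModW.Mod Λ X)} (hS : S.ShortExact)
    (h1 : EtModW.IsConstructible Λ S.X₁) (h3 : EtModW.IsConstructible Λ S.X₃) : EtModW.IsConstructible Λ S.X₂ :=
  isConstructible_of_two h1 h3 fun _ g ha hb => isFTLocConst_of_extension (hS.map_of_exact (EtModW.pull Λ g)) ha hb

variable (Λ X) in
/-- constructible sheaves are closed under kernels and cokernels -/
theorem kerCokerClosed_isConstructible : KerCokerClosed (fun F : EtModW.Mod Λ X => EtModW.IsConstructible Λ F) :=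
  ⟨isConstructible_kernel, isConstructible_cokernel, fun e h => isConstructible_of_iso e h⟩

/-- stalks detect zero maps of sheaves of modules at the points covered by a family -/
theorem eq_zero_of_pulls {ι : Type*} (U : ι → Scheme.{u}) (g : ∀ i, U i ⟶ X)
    (hsurj : ∀ x : X, ∃ i, x ∈ Set.range (g i).base) {F G : EtModW.Mod Λ X} (f : F ⟶ G)
    (h : ∀ i, (EtModW.pull Λ (g i)).map f = 0) : f = 0 := by
  refine eq_of_stalks (A := ModuleCat.{u + 1} Λ) f (0 : F ⟶ G) fun k _ _ ξ => ?_
  obtain ⟨i, hi⟩ := hsurj (ξ.base (default : Spec (CommRingCat.of k)))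
  obtain ⟨Ω, _, _, z, e, he⟩ := exists_lift_extension (g i) ξ hi
  have h1 : (EtModW.stalk Λ (z ≫ g i)).map f = 0 := by
    rw [← cancel_epi ((sheafFiberPullIso (A := ModuleCat.{u + 1} Λ) (g i) z).hom.app F), comp_zero]
    refine ((sheafFiberPullIso (A := ModuleCat.{u + 1} Λ) (g i) z).hom.naturality f).symm.trans ?_
    show (EtModW.stalk Λ z).map ((EtModW.pull Λ (g i)).map f) ≫ _ = 0
    rw [h i, Functor.map_zero, zero_comp]
  rw [← he] at h1
  have h0 : (EtModW.stalk Λ ξ).map (0 : F ⟶ G) = 0 := (EtModW.stalk Λ ξ).mapAddHom.map_zero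
  change (EtModW.stalk Λ ξ).map f = (EtModW.stalk Λ ξ).map (0 : F ⟶ G)
  let α : EtModW.stalk Λ ξ ≅ EtModW.stalk Λ (e ≫ ξ) := stalkExtIso (ModuleCat.{u + 1} Λ) ξ e
  rw [h0, ← Category.comp_id ((EtModW.stalk Λ ξ).map f), ← α.hom_inv_id_app G, ← Category.assoc, α.hom.naturality f]
  exact (congrArg (fun q => (α.hom.app F ≫ q) ≫ α.inv.app G) h1).trans (by rw [comp_zero, zero_comp])

end Groth.Agent.ModWLib

namespace Groth.Agent.ModWLib

set_option backward.isDefEq.respectTransparency.types false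

variable {Λ : Type (u + 1)} [CommRing Λ] {X : Scheme.{u}}

/-- finite type locally constant sheaves are constructible -/
theorem isConstructible_of_isFTLocConst {F : EtModW.Mod Λ X} (hF : EtModW.IsFTLocConst Λ F) :
    EtModW.IsConstructible Λ F := by
  intro U hU
  refine adaptedStrata_of_cover U.2.isLocallyClosed (fun _ : Unit => (U : Set X)) (fun _ => ?_) (fun _ => ?_)
    (fun x hx => Set.mem_iUnion.2 ⟨(), hx⟩)
  · exact ⟨_, U.ι, inferInstance, U.range_ι, isFTLocConst_pull U.ι hF⟩
  · rw [Subtype.coe_preimage_self]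
    exact IsConstructible.univ

/-- on a connected noetherian scheme one stalk detects zero maps between locally constant sheaves -/
theorem eq_zero_of_stalk [IsNoetherian X] [ConnectedSpace X] {F G : EtModW.Mod Λ X} (f : F ⟶ G)
    (hF : EtModW.IsFTLocConst Λ F) (hG : EtModW.IsFTLocConst Λ G) {k : Type u} [Field k] [IsSepClosed k]
    (s : Spec (CommRingCat.of k) ⟶ X) (h : (EtModW.stalk Λ s).map f = 0) : f = 0 := by
  refine eq_of_stalks (A := ModuleCat.{u + 1} Λ) f (0 : F ⟶ G) fun k' _ _ t => ?_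
  obtain ⟨e⟩ := nonempty_iso_stalkSystems (ComposableArrows.mk₁ f)
    (fun j => by fin_cases j <;> assumption) s t
  have h1 := e.hom.naturality (homOfLE (Fin.zero_le (1 : Fin 2)))
  change (EtModW.stalk Λ s).map f ≫ e.hom.app 1 = e.hom.app 0 ≫ (EtModW.stalk Λ t).map f at h1
  rw [h, zero_comp] at h1
  show (EtModW.stalk Λ t).map f = (EtModW.stalk Λ t).map (0 : F ⟶ G)
  rw [show (EtModW.stalk Λ t).map (0 : F ⟶ G) = 0 from (EtModW.stalk Λ t).mapAddHom.map_zero]
  calc (EtModW.stalk Λ t).map f = (e.inv.app 0 ≫ e.hom.app 0) ≫ (EtModW.stalk Λ t).map f := by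
        rw [e.inv_hom_id_app]; exact (Category.id_comp _).symm
    _ = 0 := (Category.assoc _ _ _).trans ((congrArg (e.inv.app 0 ≫ ·) h1.symm).trans comp_zero)

end Groth.Agent.ModWLib
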