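import Groth.Agent.ARLib.Basic
import Mathlib.CategoryTheory.Adjunction.Additive
import Mathlib.CategoryTheory.Linear.LinearFunctor
import Mathlib.CategoryTheory.Limits.Preserves.FunctorCategory
import Mathlib.CategoryTheory.Limits.Preserves.Shapes.Kernels

/-! exact linear left adjoints carry adic systems up to translation to such -/

set_option autoImplicit false

universe w v v' u u'

open CategoryTheory CategoryTheory.Limits Opposite

namespace Groth.Agent.ModWLib

variable {A : Type w} [CommRing A] {C : Type u} [Category.{v} C] {D : Type u'} [Category.{v'} D]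

section linear

variable [Preadditive C] [Linear A C] [Preadditive D] [Linear A D] {F : C ⥤ D} {G : D ⥤ C}

theorem linear_of_leftAdjoint (adj : F ⊣ G) [G.Additive] [G.Linear A] [F.Additive] : F.Linear A where
  map_smul {X Y} f a := by
    apply (adj.homEquiv _ _).injective
    have h1 : adj.homEquiv X (F.obj Y) (a • F.map f) = a • adj.homEquiv X (F.obj Y) (F.map f) := by
      simp only [Adjunction.homEquiv_unit, G.map_smul, Linear.comp_smul]
    rw [h1, Adjunction.homEquiv_unit, Adjunction.homEquiv_unit, adj.unit_naturality, adj.unit_naturality,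
      Linear.smul_comp]

theorem killedBy_map [F.Additive] [F.Linear A] {I : Ideal A} {X : C} (h : ARSys.KilledBy I X) :
    ARSys.KilledBy I (F.obj X) := fun a ha => by
  rw [← F.map_id, ← F.map_smul, h a ha, F.map_zero]

theorem isQuot_map (adj : F ⊣ G) [F.Additive] [F.Linear A] {I : Ideal A} {X Q : C}
    {p : X ⟶ Q} (h : ARSys.IsQuot I p) : ARSys.IsQuot I (F.map p) := by
  refine ⟨killedBy_map h.1, fun Y φ hφ => ?_⟩
  have hk : ARSys.HomKilledBy I (adj.homEquiv _ _ φ) := fun a ha => by
    apply (adj.homEquiv _ _).symm.injective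
    rw [Adjunction.homEquiv_counit, Adjunction.homEquiv_counit, F.map_smul, F.map_zero, zero_comp,
      Linear.smul_comp, ← Adjunction.homEquiv_counit, Equiv.symm_apply_apply]
    exact hφ a ha
  obtain ⟨ψ, hψ, huniq⟩ := h.2 _ _ hk
  refine ⟨(adj.homEquiv _ _).symm ψ, ?_, fun χ hχ => ?_⟩
  · exact (adj.homEquiv_naturality_left_symm p ψ).symm.trans
      ((congrArg (adj.homEquiv _ _).symm hψ).trans ((adj.homEquiv _ _).symm_apply_apply φ))
  · rw [← huniq (adj.homEquiv _ _ χ) ((adj.homEquiv_naturality_left p χ).symm.trans (congrArg _ hχ)),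
      Equiv.symm_apply_apply]

theorem termKilled_map [F.Additive] [F.Linear A] {I : Ideal A} {X : ARSys.PS C} (h : ARSys.TermKilled I X) :
    ARSys.TermKilled I (X ⋙ F) := fun n => (killedBy_map (F := F) (h n) :)

theorem isAdic_map (adj : F ⊣ G) [F.Additive] [F.Linear A] {I : Ideal A}
    {X : ARSys.PS C} (h : ARSys.IsAdic I X) : ARSys.IsAdic I (X ⋙ F) :=
  ⟨termKilled_map h.1, fun n m hnm => isQuot_map adj (h.2 n m hnm)⟩

end linear

section null

variable [HasZeroMorphisms C] [HasZeroMorphisms D]

theorem isARNull_map (F : C ⥤ D) [F.PreservesZeroMorphisms] {X : ARSys.PS C} (h : ARSys.IsARNull X) :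
    ARSys.IsARNull (X ⋙ F) := by
  obtain ⟨r, hr⟩ := h
  exact ⟨r, fun n => (congrArg F.map (hr n)).trans (F.map_zero _ _)⟩

theorem isARNull_of_iso {X Y : ARSys.PS C} (e : X ≅ Y) (h : ARSys.IsARNull X) : ARSys.IsARNull Y := by
  obtain ⟨r, hr⟩ := h
  refine ⟨r, fun n => ?_⟩
  refine (cancel_epi (e.hom.app (op (n + r)))).1 ?_
  exact ((e.hom.naturality (homOfLE (Nat.le_add_right n r)).op).symm.trans
    ((congrArg (· ≫ e.hom.app (op n)) (hr n)).trans zero_comp)).trans comp_zero.symm

end null

theorem isARIso_map [Abelian C] [Abelian D] (F : C ⥤ D) [F.Additive] [PreservesFiniteLimits F]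
    [PreservesFiniteColimits F] {X Y : ARSys.PS C} {v : X ⟶ Y} (h : ARSys.IsARIso v) :
    ARSys.IsARIso (Functor.whiskerRight v F) := by
  let W := (Functor.whiskeringRight ℕᵒᵖ C D).obj F
  have : W.Additive := { map_add := fun {_ _ f g} => NatTrans.ext (funext fun _ => F.map_add) }
  exact ⟨isARNull_of_iso (PreservesKernel.iso W v) (isARNull_map F h.1),
    isARNull_of_iso (PreservesCokernel.iso W v) (isARNull_map F h.2)⟩

end Groth.Agent.ModWLib
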