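import Groth.Agent.ModWLib.Basic
import Groth.Agent.ModWLib.Transfer
import Groth.Agent.EtLC12.ModPullExact

/-! stalks and inverse images of sheaves of modules are exact and linear; finiteness of stalks -/

set_option autoImplicit false
set_option linter.style.haveILetI false

universe u

open CategoryTheory CategoryTheory.Limits AlgebraicGeometry Opposite Groth.Agent.EtFound

namespace Groth.Agent.ModWLib

set_option backward.isDefEq.respectTransparency.types false

variable {Λ : Type (u + 1)} [CommRing Λ]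

instance : AB5OfSize.{u, u} (ModuleCat.{u + 1} Λ) := AB5OfSize_shrink.{u, u, u + 1, u + 1} _

instance pushMod_linear {X Y : Scheme.{u}} (f : X ⟶ Y) : (EtModW.push Λ f).Linear Λ where
  map_smul _ _ := rfl

instance pullMod_isLeftAdjoint {X Y : Scheme.{u}} (f : X ⟶ Y) : (EtModW.pull Λ f).IsLeftAdjoint :=
  (pullPushModAdj Λ f).isLeftAdjoint

instance pullMod_preservesFiniteLimits {X Y : Scheme.{u}} (f : X ⟶ Y) :
    PreservesFiniteLimits (EtModW.pull Λ f) :=
  EtLC12.ModPullExact.pull_preservesFiniteLimits Λ f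

instance pullMod_additive {X Y : Scheme.{u}} (f : X ⟶ Y) : (EtModW.pull Λ f).Additive :=
  (pullPushModAdj Λ f).left_adjoint_additive

instance pullMod_linear {X Y : Scheme.{u}} (f : X ⟶ Y) : (EtModW.pull Λ f).Linear Λ :=
  linear_of_leftAdjoint (pullPushModAdj Λ f)

variable {X : Scheme.{u}} {Ω : Type u} [Field Ω] [IsSepClosed Ω] (ξ : Spec (CommRingCat.of Ω) ⟶ X)

instance stalkMod_isLeftAdjoint : (EtModW.stalk Λ ξ).IsLeftAdjoint :=
  (Scheme.pointSmallEtale ξ).skyscraperSheafAdjunction.isLeftAdjoint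

instance stalkMod_preservesFiniteLimits : PreservesFiniteLimits (EtModW.stalk Λ ξ) := by
  delta EtModW.stalk
  infer_instance

instance stalkMod_additive : (EtModW.stalk Λ ξ).Additive :=
  Functor.additive_of_preserves_binary_products _

instance stalkMod_linear : (EtModW.stalk Λ ξ).Linear Λ where
  map_smul f a := (Scheme.pointSmallEtale ξ).presheafFiber_hom_ext fun U x => by
    refine ((Scheme.pointSmallEtale ξ).toPresheafFiber_naturality _ U x).trans ?_
    refine Eq.trans ?_ (Linear.comp_smul _ _ _ ((Scheme.pointSmallEtale ξ).toPresheafFiber U x _) a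
      ((Scheme.pointSmallEtale ξ).presheafFiber.map f.hom)).symm
    refine Eq.trans ?_ (congrArg (a • ·) ((Scheme.pointSmallEtale ξ).toPresheafFiber_naturality f.hom U x).symm)
    exact Linear.smul_comp _ _ _ _ _ _

/-- stalks at geometric points over the same point are isomorphic -/
theorem nonempty_stalk_iso {k : Type u} [Field k] [IsSepClosed k] (ζ : Spec (CommRingCat.of k) ⟶ X)
    (h : ζ.base (default : Spec (CommRingCat.of k)) = ξ.base (default : Spec (CommRingCat.of Ω)))
    (F : EtModW.Mod Λ X) : Nonempty ((EtModW.stalk Λ ζ).obj F ≅ (EtModW.stalk Λ ξ).obj F) := by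
  obtain ⟨L, _, _, z, e, he⟩ := exists_lift_extension ξ ζ ⟨default, h.symm⟩
  exact ⟨(stalkExtIso (ModuleCat.{u + 1} Λ) ζ e).app F ≪≫
    eqToIso (congrArg (fun q => (EtModW.stalk Λ q).obj F) he) ≪≫
    ((stalkExtIso (ModuleCat.{u + 1} Λ) ξ z).app F).symm⟩

/-- stalks of finite type locally constant sheaves are finitely generated -/
theorem finite_stalk_of_isFTLocConst {F : EtModW.Mod Λ X} (hF : EtModW.IsFTLocConst Λ F) :
    Module.Finite Λ ((EtModW.stalk Λ ξ).obj F) := by
  obtain ⟨ι, U, hU, hF⟩ := hF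
  obtain ⟨i, y, hy⟩ := hU (ξ.base (default : Spec (CommRingCat.of Ω)))
  obtain ⟨M, iM, iM', fM, ⟨e⟩⟩ := hF i
  obtain ⟨φ, hφ⟩ := exists_constBy e
  obtain ⟨k, _, _, ζ, z, hz⟩ := exists_algClosed_point (U i) y
  obtain ⟨a⟩ := nonempty_stalk_iso ξ ζ ((base_of_point z).symm.trans ((congrArg _ hz).trans hy)) F
  have hb := hφ k ζ z
  haveI : Module.Finite Λ ((EtModW.stalk Λ ζ).obj F) :=
    Module.Finite.of_surjective (φ ≫ (Scheme.pointSmallEtale ζ).toPresheafFiber (U i) z F.obj).hom hb.2
  exact Module.Finite.equiv a.toLinearEquiv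

/-- stalks of constructible sheaves of modules are finitely generated -/
theorem finite_stalk_of_isConstructible {F : EtModW.Mod Λ X} (hF : EtModW.IsConstructible Λ F) :
    Module.Finite Λ ((EtModW.stalk Λ ξ).obj F) := by
  obtain ⟨W, hW, hxW, -⟩ := exists_isAffineOpen_mem_and_subset (U := (⊤ : X.Opens))
    (x := ξ.base (default : Spec (CommRingCat.of Ω))) trivial
  obtain ⟨n, T, g, hg, -, -, hu, hT⟩ := hF W hW
  obtain ⟨i, t, ht⟩ := Set.mem_iUnion.1 (hu.ge hxW)
  obtain ⟨k, _, _, ζ, z, hz⟩ := exists_algClosed_point (EtCoh.top (T i)) t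
  have hζ : ζ.base (default : Spec (CommRingCat.of k)) = t := (base_of_point z).symm.trans (congrArg _ hz)
  obtain ⟨a⟩ := nonempty_stalk_iso ξ (ζ ≫ g i) ((Scheme.Hom.comp_apply _ _ _).trans
    ((congrArg (g i).base hζ).trans ht)) F
  haveI : Module.Finite Λ ↑(((EtModW.pull Λ (g i)) ⋙ EtModW.stalk Λ ζ).obj F) := finite_stalk_of_isFTLocConst ζ (hT i)
  exact Module.Finite.equiv (((sheafFiberPullIso (g i) ζ).app F) ≪≫ a).toLinearEquiv

end Groth.Agent.ModWLib

namespace Groth.Agent.ModWLib

set_option backward.isDefEq.respectTransparency.types false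

/-- constructibility of sheaves of modules transports along isomorphisms -/
theorem isConstructible_of_iso {Λ : Type (u + 1)} [CommRing Λ] {X : Scheme.{u}} {F G : EtModW.Mod Λ X}
    (e : F ≅ G) (h : EtModW.IsConstructible Λ F) : EtModW.IsConstructible Λ G := fun U hU => by
  obtain ⟨n, T, g, h1, h2, h3, h4, h5⟩ := h U hU
  exact ⟨n, T, g, h1, h2, h3, h4, fun i => isFTLocConst_of_iso ((EtModW.pull Λ (g i)).mapIso e) (h5 i)⟩

end Groth.Agent.ModWLib
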