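import Groth.Agent.ModWLib.Cospec
import Mathlib.Algebra.Homology.ShortComplex.ModuleCat
import Mathlib.Algebra.Homology.ShortComplex.PreservesHomology
import Mathlib.RingTheory.Noetherian.Basic

/-! finite type locally constant sheaves of modules: kernels, cokernels, extensions -/

set_option autoImplicit false
set_option linter.style.haveILetI false

universe u

open CategoryTheory CategoryTheory.Limits AlgebraicGeometry Opposite Groth.Agent.EtFound

namespace Groth.Agent.ModWLib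

set_option backward.isDefEq.respectTransparency.types false

variable {Λ : Type (u + 1)} [CommRing Λ] {X : Scheme.{u}}

/-- germs as linear maps -/
noncomputable abbrev germL (F : EtModW.Mod Λ X) {U : X.Etale} {Ω : Type u} [Field Ω] [IsSepClosed Ω]
    {ξ : Spec (CommRingCat.of Ω) ⟶ X} (z : (Scheme.pointSmallEtale ξ).fiber.obj U) :
    F.obj.obj (op U) →ₗ[Λ] (EtModW.stalk Λ ξ).obj F :=
  ((Scheme.pointSmallEtale ξ).toPresheafFiber U z F.obj).hom

theorem germL_naturality {F G : EtModW.Mod Λ X} (a : F ⟶ G) {U : X.Etale} {Ω : Type u} [Field Ω] [IsSepClosed Ω]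
    {ξ : Spec (CommRingCat.of Ω) ⟶ X} (z : (Scheme.pointSmallEtale ξ).fiber.obj U) (s : F.obj.obj (op U)) :
    (EtModW.stalk Λ ξ).map a (germL F z s) = germL G z (a.hom.app (op U) s) :=
  (Scheme.pointSmallEtale ξ).toPresheafFiber_naturality_apply a.hom U z s

theorem germL_map (F : EtModW.Mod Λ X) {U V : X.Etale} (g : V ⟶ U) {Ω : Type u} [Field Ω] [IsSepClosed Ω]
    {ξ : Spec (CommRingCat.of Ω) ⟶ X} (v : (Scheme.pointSmallEtale ξ).fiber.obj V) (s : F.obj.obj (op U)) :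
    germL F v (F.obj.map g.op s) = germL F ((Scheme.pointSmallEtale ξ).fiber.map g v) s :=
  (Scheme.pointSmallEtale ξ).toPresheafFiber_w_apply g v F.obj s

/-- a sheaf is locally generated by constant families -/
theorem isFTLocConst_of_constBy (F : EtModW.Mod Λ X)
    (h : ∀ x : X, ∃ (U : X.Etale) (p : U.left) (M : ModuleCat.{u + 1} Λ) (_ : Module.Finite Λ M)
      (φ : M ⟶ F.obj.obj (op U)), U.hom.base p = x ∧ ConstBy F φ) : EtModW.IsFTLocConst Λ F := by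
  choose U p M hM φ hp hφ using h
  exact ⟨X, U, fun x => ⟨x, p x, hp x⟩, fun x => ⟨M x, _, _, hM x, nonempty_restr_iso_const (hφ x)⟩⟩

/-- two finite type locally constant sheaves are constant on a common neighbourhood -/
theorem exists_common {F G : EtModW.Mod Λ X} (hF : EtModW.IsFTLocConst Λ F) (hG : EtModW.IsFTLocConst Λ G) (x : X) :
    ∃ (Ω : Type u) (_ : Field Ω) (_ : IsAlgClosed Ω) (ξ : Spec (CommRingCat.of Ω) ⟶ X) (U : X.Etale)
      (_ : (Scheme.pointSmallEtale ξ).fiber.obj U) (M : ModuleCat.{u + 1} Λ) (_ : Module.Finite Λ M)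
      (N : ModuleCat.{u + 1} Λ) (_ : Module.Finite Λ N) (φ : M ⟶ F.obj.obj (op U)) (ψ : N ⟶ G.obj.obj (op U)),
      ξ.base (default : Spec (CommRingCat.of Ω)) = x ∧ ConstBy F φ ∧ ConstBy G ψ := by
  obtain ⟨ι₁, U₁, hU₁, h₁⟩ := hF
  obtain ⟨ι₂, U₂, hU₂, h₂⟩ := hG
  obtain ⟨i, p₁, hp₁⟩ := hU₁ x
  obtain ⟨j, p₂, hp₂⟩ := hU₂ x
  obtain ⟨M, iM, iM', fM, ⟨eM⟩⟩ := h₁ i
  obtain ⟨N, iN, iN', fN, ⟨eN⟩⟩ := h₂ j
  obtain ⟨φM, hM⟩ := exists_constBy eM
  obtain ⟨φN, hN⟩ := exists_constBy eN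
  obtain ⟨Ω, _, _, ξ, u₁, hu₁⟩ := exists_algClosed_point (U₁ i) p₁
  have hξ : ξ.base (default : Spec (CommRingCat.of Ω)) = x :=
    (base_of_point u₁).symm.trans ((congrArg _ hu₁).trans hp₁)
  obtain ⟨u₂, -⟩ := Scheme.pointSmallEtaleFiberObjToPreimage_surjective ξ hξ (U₂ j) ⟨p₂, hp₂⟩
  obtain ⟨⟨W, w⟩, ⟨a, -⟩, ⟨b, -⟩, -⟩ := IsCofilteredOrEmpty.cone_objs
    ((Scheme.pointSmallEtale ξ).fiber.elementsMk (U₁ i) u₁) ((Scheme.pointSmallEtale ξ).fiber.elementsMk (U₂ j) u₂)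
  exact ⟨Ω, inferInstance, inferInstance, ξ, W, w, _, (inferInstance : Module.Finite Λ M), _,
    (inferInstance : Module.Finite Λ N), _, _, hξ, hM.restrict a, hN.restrict b⟩

/-- maps out of finitely generated constant families are constant near a point -/
theorem exists_map_near {G : EtModW.Mod Λ X} {U : X.Etale} {Ω : Type u} [Field Ω] [IsAlgClosed Ω]
    {ξ : Spec (CommRingCat.of Ω) ⟶ X} (u : (Scheme.pointSmallEtale ξ).fiber.obj U) {M N : ModuleCat.{u + 1} Λ}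
    [Module.Finite Λ M] (θ : M ⟶ G.obj.obj (op U)) {ψ : N ⟶ G.obj.obj (op U)} (hψ : ConstBy G ψ) :
    ∃ (V : X.Etale) (g : V ⟶ U) (v : (Scheme.pointSmallEtale ξ).fiber.obj V) (h : M ⟶ N),
      (Scheme.pointSmallEtale ξ).fiber.map g v = u ∧ θ ≫ G.obj.map g.op = h ≫ ψ ≫ G.obj.map g.op := by
  let e : N ≃ₗ[Λ] _ := LinearEquiv.ofBijective
    (ψ ≫ (Scheme.pointSmallEtale ξ).toPresheafFiber U u G.obj).hom (hψ Ω ξ u)
  let h : M →ₗ[Λ] N := e.symm.toLinearMap.comp ((germL G u).comp θ.hom)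
  obtain ⟨r, s, hs⟩ := Module.Finite.exists_fin' Λ M
  let gen : ULift.{u + 1} (Fin r) → M := fun k => s (Pi.single k.down 1)
  obtain ⟨V, g, v, hv, hg⟩ := exists_forall_eq G.obj u (fun k => θ (gen k)) (fun k => ψ (h (gen k)))
    (fun k => (e.apply_symm_apply _).symm.trans
      (ConcreteCategory.comp_apply ψ ((Scheme.pointSmallEtale ξ).toPresheafFiber U u G.obj) (h (gen k))))
  refine ⟨V, g, v, ModuleCat.ofHom h, hv, ?_⟩
  have hcomp : (θ ≫ G.obj.map g.op).hom.comp s = (ModuleCat.ofHom h ≫ ψ ≫ G.obj.map g.op).hom.comp s :=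
    LinearMap.pi_ext' fun k => LinearMap.ext_ring (hg ⟨k⟩)
  refine ModuleCat.hom_ext (LinearMap.ext fun m => ?_)
  obtain ⟨c, rfl⟩ := hs m
  exact LinearMap.congr_fun hcomp c

/-- finitely many germs have representatives on one neighbourhood -/
theorem exists_reps {G : EtModW.Mod Λ X} {U : X.Etale} {Ω : Type u} [Field Ω] [IsSepClosed Ω]
    {ξ : Spec (CommRingCat.of Ω) ⟶ X} (u : (Scheme.pointSmallEtale ξ).fiber.obj U)
    {r : ℕ} (c : Fin r → (EtModW.stalk Λ ξ).obj G) :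
    ∃ (V : X.Etale) (g : V ⟶ U) (v : (Scheme.pointSmallEtale ξ).fiber.obj V) (e : Fin r → G.obj.obj (op V)),
      (Scheme.pointSmallEtale ξ).fiber.map g v = u ∧ ∀ k, germL G v (e k) = c k := by
  induction r with
  | zero => exact ⟨U, 𝟙 U, u, fun k => k.elim0, by simp, fun k => k.elim0⟩
  | succ r ih =>
    obtain ⟨V, g, v, e, hv, he⟩ := ih (fun k => c k.succ)
    obtain ⟨W, w, t, ht⟩ := (Scheme.pointSmallEtale ξ).toPresheafFiber_jointly_surjective (c 0)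
    obtain ⟨⟨T, z⟩, ⟨a, ha⟩, ⟨b, hb⟩, -⟩ := IsCofilteredOrEmpty.cone_objs
      ((Scheme.pointSmallEtale ξ).fiber.elementsMk V v) ((Scheme.pointSmallEtale ξ).fiber.elementsMk W w)
    obtain ⟨a', ha'⟩ : ∃ a' : T ⟶ V, (Scheme.pointSmallEtale ξ).fiber.map a' z = v := ⟨a, ha⟩
    obtain ⟨b', hb'⟩ : ∃ b' : T ⟶ W, (Scheme.pointSmallEtale ξ).fiber.map b' z = w := ⟨b, hb⟩
    refine ⟨T, a' ≫ g, z, Fin.cases (G.obj.map b'.op t) (fun k => G.obj.map a'.op (e k)),
      by rw [Functor.map_comp_apply, ha', hv], Fin.cases ?_ fun k => ?_⟩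
    · simp only [Fin.cases_zero]; rw [germL_map, hb']; exact ht
    · simp only [Fin.cases_succ]; rw [germL_map, ha']; exact he k

section

variable {S : ShortComplex (EtModW.Mod Λ X)}

theorem stalk_exact (hS : S.Exact) {Ω : Type u} [Field Ω] [IsSepClosed Ω] (ξ : Spec (CommRingCat.of Ω) ⟶ X)
    (c : (EtModW.stalk Λ ξ).obj S.X₂) (hc : (EtModW.stalk Λ ξ).map S.g c = 0) :
    ∃ b, (EtModW.stalk Λ ξ).map S.f b = c :=
  (ShortComplex.moduleCat_exact_iff _).1 (hS.map (EtModW.stalk Λ ξ)) c hc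

theorem stalk_injective [Mono S.f] {Ω : Type u} [Field Ω] [IsSepClosed Ω] (ξ : Spec (CommRingCat.of Ω) ⟶ X) :
    Function.Injective ((EtModW.stalk Λ ξ).map S.f) :=
  (ModuleCat.mono_iff_injective _).1 inferInstance

theorem stalk_surjective [Epi S.g] {Ω : Type u} [Field Ω] [IsSepClosed Ω] (ξ : Spec (CommRingCat.of Ω) ⟶ X) :
    Function.Surjective ((EtModW.stalk Λ ξ).map S.g) :=
  (ModuleCat.epi_iff_surjective _).1 inferInstance

/-- sections of a left exact sequence lift -/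
theorem exists_lift_sections [Mono S.f] (hS : S.Exact) {V : X.Etale} {M : ModuleCat.{u + 1} Λ}
    (θ : M ⟶ S.X₂.obj.obj (op V)) (h : θ ≫ S.g.hom.app (op V) = 0) :
    ∃ ψ : M ⟶ S.X₁.obj.obj (op V), ψ ≫ S.f.hom.app (op V) = θ := by
  let ev := sheafToPresheaf X.smallEtaleTopology (ModuleCat.{u + 1} Λ) ⋙
    (evaluation _ (ModuleCat.{u + 1} Λ)).obj (op V)
  have h1 : (S.map ev).Exact := hS.map_of_mono_of_preservesKernel ev inferInstance inferInstance
  haveI : Mono (S.map ev).f := inferInstanceAs (Mono (ev.map S.f))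
  exact ⟨h1.lift θ h, h1.lift_f θ h⟩

theorem app_zero (V : X.Etale) (s : S.X₁.obj.obj (op V)) : S.g.hom.app (op V) (S.f.hom.app (op V) s) = 0 :=
  congr(($(S.zero)).hom.app (op V) s)

/-- kernels of finite type locally constant sheaves -/
theorem isFTLocConst_of_kernel [IsNoetherianRing Λ] [Mono S.f] (hS : S.Exact)
    (h2 : EtModW.IsFTLocConst Λ S.X₂) (h3 : EtModW.IsFTLocConst Λ S.X₃) : EtModW.IsFTLocConst Λ S.X₁ := by
  refine isFTLocConst_of_constBy _ fun x => ?_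
  obtain ⟨Ω, _, _, ξ, U, u, M, _, N, _, φ, ψ, hξ, hφ, hψ⟩ := exists_common h2 h3 x
  obtain ⟨V, g, v, h, -, hh⟩ := exists_map_near u (φ ≫ S.g.hom.app (op U)) hψ
  have hφ' := hφ.restrict g
  have hψ' := hψ.restrict g
  let K := LinearMap.ker h.hom
  have hh' : ∀ m, S.g.hom.app (op V) ((φ ≫ S.X₂.obj.map g.op) m) = (ψ ≫ S.X₃.obj.map g.op) (h m) := fun m =>
    (NatTrans.naturality_apply S.g.hom g.op (φ m)).trans (ConcreteCategory.congr_hom hh m)
  obtain ⟨χ, hχ⟩ := exists_lift_sections hS (V := V) (M := ModuleCat.of Λ K)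
    (ModuleCat.ofHom K.subtype ≫ φ ≫ S.X₂.obj.map g.op) (ModuleCat.hom_ext (LinearMap.ext fun k => by
      exact (hh' k.1).trans ((congrArg _ (LinearMap.mem_ker.1 k.2)).trans (map_zero _))))
  refine ⟨V, ptOf v, ModuleCat.of Λ K, (inferInstance : Module.Finite Λ K), χ, (hom_ptOf v).trans hξ, fun L _ _ ζ z => ?_⟩
  have key : ∀ k : K, (EtModW.stalk Λ ζ).map S.f (germL S.X₁ z (χ k)) = germL S.X₂ z ((φ ≫ S.X₂.obj.map g.op) k.1) :=
    fun k => (germL_naturality S.f z _).trans (congrArg _ (ConcreteCategory.congr_hom hχ k))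
  refine ⟨fun a b e => Subtype.ext ((hφ' L ζ z).1
    ((key a).symm.trans ((congrArg _ e).trans (key b)))), fun c => ?_⟩
  obtain ⟨m, hm⟩ := (hφ' L ζ z).2 ((EtModW.stalk Λ ζ).map S.f c)
  have hk : h m = 0 := (hψ' L ζ z).1 (by
    refine Eq.trans ?_ (map_zero _).symm
    refine (congrArg (germL S.X₃ z) (hh' m)).symm.trans ((germL_naturality S.g z _).symm.trans ?_)
    refine (congrArg _ hm).trans ?_
    exact congr(($((S.map (EtModW.stalk Λ ζ)).zero)) c))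
  exact ⟨⟨m, hk⟩, stalk_injective ζ ((key ⟨m, hk⟩).trans hm)⟩

/-- cokernels of finite type locally constant sheaves -/
theorem isFTLocConst_of_cokernel [Epi S.g] (hS : S.Exact)
    (h1 : EtModW.IsFTLocConst Λ S.X₁) (h2 : EtModW.IsFTLocConst Λ S.X₂) : EtModW.IsFTLocConst Λ S.X₃ := by
  refine isFTLocConst_of_constBy _ fun x => ?_
  obtain ⟨Ω, _, _, ξ, U, u, M, _, N, _, φ, ψ, hξ, hφ, hψ⟩ := exists_common h1 h2 x
  obtain ⟨V, g, v, h, -, hh⟩ := exists_map_near u (φ ≫ S.f.hom.app (op U)) hψ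
  have hφ' := hφ.restrict g
  have hψ' := hψ.restrict g
  have hh' : ∀ m, S.f.hom.app (op V) ((φ ≫ S.X₁.obj.map g.op) m) = (ψ ≫ S.X₂.obj.map g.op) (h m) := fun m =>
    (NatTrans.naturality_apply S.f.hom g.op (φ m)).trans (ConcreteCategory.congr_hom hh m)
  let R := LinearMap.range h.hom
  have hR : R ≤ LinearMap.ker (ψ ≫ S.X₂.obj.map g.op ≫ S.g.hom.app (op V)).hom := by
    rintro _ ⟨m, rfl⟩
    exact (congrArg (S.g.hom.app (op V)) (hh' m)).symm.trans (app_zero V _)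
  refine ⟨V, ptOf v, ModuleCat.of Λ (N ⧸ R), (inferInstance : Module.Finite Λ (N ⧸ R)), ModuleCat.ofHom (R.liftQ _ hR),
    (hom_ptOf v).trans hξ, fun L _ _ ζ z => ?_⟩
  have key : ∀ n : N, germL S.X₃ z (R.liftQ _ hR (Submodule.Quotient.mk n)) =
      (EtModW.stalk Λ ζ).map S.g (germL S.X₂ z ((ψ ≫ S.X₂.obj.map g.op) n)) := fun n =>
    (germL_naturality S.g z _).symm
  refine ⟨fun a b e => ?_, fun q => ?_⟩
  · obtain ⟨a, rfl⟩ := Submodule.Quotient.mk_surjective R a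
    obtain ⟨b, rfl⟩ := Submodule.Quotient.mk_surjective R b
    obtain ⟨y, hy⟩ := stalk_exact hS ζ (germL S.X₂ z ((ψ ≫ S.X₂.obj.map g.op) (a - b))) (by
      rw [map_sub, map_sub, map_sub, ← key, ← key]
      exact sub_eq_zero.2 e)
    obtain ⟨m, rfl⟩ := (hφ' L ζ z).2 y
    refine (Submodule.Quotient.eq R).2 ⟨m, (hψ' L ζ z).1 ?_⟩
    refine Eq.trans ?_ hy
    exact ((germL_naturality S.f z ((φ ≫ S.X₁.obj.map g.op) m)).trans (congrArg _ (hh' m))).symm
  · obtain ⟨y, rfl⟩ := stalk_surjective ζ q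
    obtain ⟨n, rfl⟩ := (hψ' L ζ z).2 y
    exact ⟨Submodule.Quotient.mk n, key n⟩

/-- extensions of finite type locally constant sheaves -/
theorem isFTLocConst_of_extension [IsNoetherianRing Λ] (hS : S.ShortExact)
    (h1 : EtModW.IsFTLocConst Λ S.X₁) (h3 : EtModW.IsFTLocConst Λ S.X₃) : EtModW.IsFTLocConst Λ S.X₂ := by
  haveI := hS.mono_f
  haveI := hS.epi_g
  refine isFTLocConst_of_constBy _ fun x => ?_
  obtain ⟨Ω, _, _, ξ, U, u, M, _, N, _, φ, ψ, hξ, hφ, hψ⟩ := exists_common h1 h3 x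
  obtain ⟨r, s, hs⟩ := Module.Finite.exists_fin' Λ N
  -- lifts of the generators
  choose c hc using fun k : Fin r => stalk_surjective (S := S) ξ (germL S.X₃ u (ψ (s (Pi.single k 1))))
  obtain ⟨V₁, g₁, v₁, e₁, hv₁, he₁⟩ := exists_reps u c
  obtain ⟨V₂, g₂, v₂, hv₂, hg₂⟩ := exists_forall_eq S.X₃.obj v₁
    (fun k : Fin r => S.g.hom.app (op V₁) (e₁ k)) (fun k => S.X₃.obj.map g₁.op (ψ (s (Pi.single k 1)))) (fun k => by
      refine (germL_naturality S.g v₁ (e₁ k)).symm.trans ((congrArg _ (he₁ k)).trans ((hc k).trans ?_))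
      refine Eq.trans ?_ (germL_map S.X₃ g₁ v₁ _).symm
      rw [hv₁])
  let g := g₂ ≫ g₁
  let L : (Fin r → Λ) →ₗ[Λ] S.X₂.obj.obj (op V₂) := Fintype.linearCombination Λ fun k => S.X₂.obj.map g₂.op (e₁ k)
  have hL : (S.g.hom.app (op V₂)).hom.comp L = (ψ ≫ S.X₃.obj.map g.op).hom.comp s := by
    refine LinearMap.pi_ext' fun k => LinearMap.ext_ring ?_
    show S.g.hom.app (op V₂) (L (Pi.single k 1)) = (ψ ≫ S.X₃.obj.map g.op) (s (Pi.single k 1))
    rw [Fintype.linearCombination_apply_single, one_smul]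
    refine (NatTrans.naturality_apply S.g.hom g₂.op (e₁ k)).trans ((hg₂ k).trans ?_)
    exact (Functor.map_comp_apply S.X₃.obj g₁.op g₂.op _).symm
  have hψ₂ := hψ.restrict g
  have hφ₂ := hφ.restrict g
  let R := LinearMap.ker s
  obtain ⟨χ, hχ⟩ := exists_lift_sections (S := S) hS.exact (V := V₂) (M := ModuleCat.of Λ R)
    (ModuleCat.ofHom (L.comp R.subtype)) (ModuleCat.hom_ext (LinearMap.ext fun k => by
      exact (LinearMap.congr_fun hL k.1).trans ((congrArg (ψ ≫ S.X₃.obj.map g.op).hom (LinearMap.mem_ker.1 k.2)).trans (map_zero _))))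
  haveI : Module.Finite Λ (ModuleCat.of Λ R) := (inferInstance : Module.Finite Λ R)
  obtain ⟨V, g₃, v, h, hv, hh⟩ := exists_map_near v₂ χ hφ₂
  have hφ' := hφ₂.restrict g₃
  have hψ' := hψ₂.restrict g₃
  let α : M →ₗ[Λ] S.X₂.obj.obj (op V) :=
    (((φ ≫ S.X₁.obj.map g.op) ≫ S.X₁.obj.map g₃.op) ≫ S.f.hom.app (op V)).hom
  let β : (Fin r → Λ) →ₗ[Λ] S.X₂.obj.obj (op V) := (S.X₂.obj.map g₃.op).hom.comp L
  have hβ : ∀ k : R, β k.1 = α (h k) := fun k => by
    have e1 : S.X₂.obj.map g₃.op (S.f.hom.app (op V₂) (χ k)) = S.f.hom.app (op V) (S.X₁.obj.map g₃.op (χ k)) :=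
      (NatTrans.naturality_apply S.f.hom g₃.op (χ k)).symm
    refine ((congrArg (S.X₂.obj.map g₃.op) (ConcreteCategory.congr_hom hχ k)).symm.trans e1).trans ?_
    exact congrArg (S.f.hom.app (op V)) (ConcreteCategory.congr_hom hh k)
  have hgβ : ∀ c, S.g.hom.app (op V) (β c) = ((ψ ≫ S.X₃.obj.map g.op) ≫ S.X₃.obj.map g₃.op) (s c) := fun c =>
    (NatTrans.naturality_apply S.g.hom g₃.op (L c)).trans (congrArg (S.X₃.obj.map g₃.op) (LinearMap.congr_fun hL c))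
  let Q : Submodule Λ (M × (Fin r → Λ)) := LinearMap.range ((-h.hom).prod R.subtype)
  have hQ : Q ≤ LinearMap.ker (α.coprod β) := by
    rintro _ ⟨k, rfl⟩
    show α (-h k) + β k.1 = 0
    rw [hβ, map_neg, neg_add_cancel]
  refine ⟨V, ptOf v, ModuleCat.of Λ ((M × (Fin r → Λ)) ⧸ Q), (inferInstance : Module.Finite Λ ((M × (Fin r → Λ)) ⧸ Q)),
    ModuleCat.ofHom (Q.liftQ _ hQ), (hom_ptOf v).trans hξ, fun K _ _ ζ z => ?_⟩
  have hgα : ∀ m, S.g.hom.app (op V) (α m) = 0 := fun m => app_zero V _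
  refine ⟨(injective_iff_map_eq_zero _).2 fun a ha => ?_, fun q => ?_⟩
  · obtain ⟨⟨m, c⟩, rfl⟩ := Submodule.Quotient.mk_surjective Q a
    replace ha : germL S.X₂ z (α m + β c) = 0 := ha
    have hc0 : s c = 0 := (hψ' K ζ z).1 (by
      refine Eq.trans ?_ (map_zero _).symm
      show germL S.X₃ z (((ψ ≫ S.X₃.obj.map g.op) ≫ S.X₃.obj.map g₃.op) (s c)) = 0
      rw [← hgβ, ← zero_add (S.g.hom.app (op V) (β c)), ← hgα m, ← map_add, ← germL_naturality]
      exact (congrArg _ ha).trans (map_zero _))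
    have hm : m + h ⟨c, hc0⟩ = 0 := (hφ' K ζ z).1 (stalk_injective ζ (by
      refine ((germL_naturality S.f z _).trans ?_).trans ((map_zero _).symm.trans (congrArg _ (map_zero _).symm))
      show germL S.X₂ z (α (m + h ⟨c, hc0⟩)) = 0
      rw [map_add, ← hβ]
      exact ha))
    refine (Submodule.Quotient.mk_eq_zero Q).2 ⟨⟨c, hc0⟩, ?_⟩
    exact Prod.ext (neg_eq_of_add_eq_zero_left hm) rfl
  · obtain ⟨n, hn⟩ := (hψ' K ζ z).2 ((EtModW.stalk Λ ζ).map S.g q)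
    obtain ⟨c, rfl⟩ := hs n
    obtain ⟨y, hy⟩ := stalk_exact hS.exact ζ ((show (EtModW.stalk Λ ζ).obj S.X₂ from q) - germL S.X₂ z (β c)) (by
      rw [map_sub, germL_naturality, hgβ]
      exact sub_eq_zero.2 hn.symm)
    obtain ⟨m, rfl⟩ := (hφ' K ζ z).2 y
    refine ⟨Submodule.Quotient.mk (m, c), ?_⟩
    show germL S.X₂ z (α m + β c) = q
    rw [map_add, ← eq_sub_iff_add_eq]
    exact (germL_naturality S.f z _).symm.trans hy

end

end Groth.Agent.ModWLib
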