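import Groth.Agent.ModWLib.ConstrSerre
import Mathlib.CategoryTheory.Subobject.NoetherianObject

/-! constructible sheaves of modules on noetherian schemes are noetherian objects -/

set_option autoImplicit false
set_option linter.style.haveILetI false
set_option linter.unusedSectionVars false

universe u

open CategoryTheory CategoryTheory.Limits AlgebraicGeometry Opposite Topology TopologicalSpace Groth.Agent.EtFound

namespace Groth.Agent.ModWLib

set_option backward.isDefEq.respectTransparency.types false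

variable {Λ : Type (u + 1)} [CommRing Λ] {X : Scheme.{u}}

/-- the image of a map on a stalk -/
noncomputable abbrev rng {H G : EtModW.Mod Λ X} (a : H ⟶ G) {Ω : Type u} [Field Ω] [IsSepClosed Ω]
    (ξ : Spec (CommRingCat.of Ω) ⟶ X) : Submodule Λ ((EtModW.stalk Λ ξ).obj G) :=
  LinearMap.range ((EtModW.stalk Λ ξ).map a).hom

theorem rng_le_of_fac {H H' G : EtModW.Mod Λ X} {a : H ⟶ G} {a' : H' ⟶ G} (e : H ⟶ H') (he : e ≫ a' = a)
    {Ω : Type u} [Field Ω] [IsSepClosed Ω] (ξ : Spec (CommRingCat.of Ω) ⟶ X) : rng a ξ ≤ rng a' ξ := by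
  rintro _ ⟨x, rfl⟩
  exact ⟨(EtModW.stalk Λ ξ).map e x,
    ((ConcreteCategory.comp_apply _ _ _).symm.trans (ConcreteCategory.congr_hom
      ((((EtModW.stalk Λ ξ).map_comp e a').symm.trans (congrArg (EtModW.stalk Λ ξ).map he))) x))⟩

theorem rng_le_congr {H H' G : EtModW.Mod Λ X} (a : H ⟶ G) (a' : H' ⟶ G)
    {Ω : Type u} [Field Ω] [IsSepClosed Ω] {ξ : Spec (CommRingCat.of Ω) ⟶ X}
    {k : Type u} [Field k] [IsSepClosed k] (ζ : Spec (CommRingCat.of k) ⟶ X)
    (h : ξ.base (default : Spec (CommRingCat.of Ω)) = ζ.base (default : Spec (CommRingCat.of k)))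
    (hle : rng a ξ ≤ rng a' ξ) : rng a ζ ≤ rng a' ζ := by
  obtain ⟨α⟩ := nonempty_stalk_natIso Λ ξ ζ h
  rintro _ ⟨x, rfl⟩
  obtain ⟨y, hy⟩ := hle ⟨α.inv.app H x, rfl⟩
  refine ⟨α.hom.app H' y, ?_⟩
  refine (NatTrans.naturality_apply α.hom a' y).symm.trans ((congrArg (α.hom.app G) hy).trans ?_)
  refine (NatTrans.naturality_apply α.hom a (α.inv.app H x)).trans (congrArg _ ?_)
  exact ((ConcreteCategory.comp_apply _ _ _).symm.trans (ConcreteCategory.congr_hom (α.inv_hom_id_app H) x)).trans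
    (ConcreteCategory.id_apply x)

/-- near a maximal point of a closed set an increasing family of images in a locally constant sheaf stabilises -/
theorem exists_stable_nhd [IsNoetherianRing Λ] [IsLocallyNoetherian X] {G : EtModW.Mod Λ X}
    (hG : EtModW.IsFTLocConst Λ G) {H : ℕ → EtModW.Mod Λ X} (a : ∀ k, H k ⟶ G)
    (hmono : ∀ {k l : ℕ}, k ≤ l → ∃ e : H k ⟶ H l, e ≫ a l = a k)
    {C : Set X} (hC : IsClosed C) {x : X} (hmax : ∀ g ∈ C, g ⤳ x → g = x) :
    ∃ (O : X.Opens) (k₀ : ℕ), x ∈ O ∧ ∀ k, k₀ ≤ k → ∀ (Ω : Type u) [Field Ω] [IsSepClosed Ω]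
      (ζ : Spec (CommRingCat.of Ω) ⟶ X), ζ.base (default : Spec (CommRingCat.of Ω)) ∈ O →
        ζ.base (default : Spec (CommRingCat.of Ω)) ∈ C → rng (a k) ζ ≤ rng (a k₀) ζ := by
  obtain ⟨ι, U', hU', hG'⟩ := hG
  obtain ⟨i, p, hp⟩ := hU' x
  obtain ⟨M, iM, iM', fM, ⟨e⟩⟩ := hG' i
  obtain ⟨φ, hφ⟩ := exists_constBy e
  obtain ⟨L, _, _, ξ, u, hu⟩ := exists_algClosed_point (U' i) p
  have hξ : ξ.base (default : Spec (CommRingCat.of L)) = x := (base_of_point u).symm.trans ((congrArg _ hu).trans hp)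
  let εM : M ≃ₗ[Λ] _ := LinearEquiv.ofBijective
    (φ ≫ (Scheme.pointSmallEtale ξ).toPresheafFiber (U' i) u G.obj).hom (hφ L ξ u)
  haveI : _root_.IsNoetherian Λ ((EtModW.stalk Λ ξ).obj G) := isNoetherian_of_linearEquiv εM
  have hm : Monotone fun k => rng (a k) ξ := fun k l hkl =>
    let ⟨_, he⟩ := hmono hkl
    rng_le_of_fac _ he ξ
  obtain ⟨k₀, hk₀⟩ := monotone_stabilizes_iff_noetherian.2 ‹_› ⟨_, hm⟩
  let N : Submodule Λ M := (rng (a k₀) ξ).comap εM.toLinearMap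
  obtain ⟨r, s, hs⟩ := Module.Finite.exists_fin' Λ N
  -- representatives of the generators
  choose c hc using fun j : Fin r => (s (Pi.single j 1)).2
  obtain ⟨V₁, g₁, v₁, t₁, hv₁, ht₁⟩ := exists_reps u c
  obtain ⟨V, g₂, v, hv, hg⟩ := exists_forall_eq G.obj v₁ (fun j : Fin r => (a k₀).hom.app (op V₁) (t₁ j))
    (fun j => G.obj.map g₁.op (φ (s (Pi.single j 1)).1)) (fun j => by
      refine (germL_naturality (a k₀) v₁ (t₁ j)).symm.trans ((congrArg _ (ht₁ j)).trans ((hc j).trans ?_))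
      refine Eq.trans ?_ (germL_map G g₁ v₁ _).symm
      rw [hv₁]
      rfl)
  have hψ := hφ.restrict (g₂ ≫ g₁)
  let ψ := φ ≫ G.obj.map (g₂ ≫ g₁).op
  have hgen : ∀ (Ω : Type u) [Field Ω] [IsSepClosed Ω] (ζ : Spec (CommRingCat.of Ω) ⟶ X)
      (z : (Scheme.pointSmallEtale ζ).fiber.obj V) (n : N), germL G z (ψ n.1) ∈ rng (a k₀) ζ := by
    intro Ω _ _ ζ z n
    obtain ⟨d, rfl⟩ := hs n
    let Γ : (Fin r → Λ) →ₗ[Λ] (EtModW.stalk Λ ζ).obj G := (germL G z).comp (ψ.hom.comp (N.subtype.comp s))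
    show Γ d ∈ rng (a k₀) ζ
    rw [show Γ = Fintype.linearCombination Λ (fun j => Γ (Pi.single j 1)) from
      LinearMap.pi_ext' fun j => LinearMap.ext_ring (by
        show Γ (Pi.single j 1) = Fintype.linearCombination Λ (fun j => Γ (Pi.single j 1)) (Pi.single j 1)
        rw [Fintype.linearCombination_apply_single, one_smul])]
    rw [Fintype.linearCombination_apply]
    refine Submodule.sum_mem _ fun j _ => Submodule.smul_mem _ _ ⟨germL (H k₀) z ((H k₀).obj.map g₂.op (t₁ j)), ?_⟩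
    refine (germL_naturality (a k₀) z _).trans ?_
    refine (congrArg (germL G z) ((NatTrans.naturality_apply (a k₀).hom g₂.op (t₁ j)).trans (hg j))).trans ?_
    exact congrArg (germL G z) (Functor.map_comp_apply G.obj g₁.op g₂.op _).symm
  have : AlgebraicGeometry.Etale V.hom := V.prop
  haveI : IsLocallyNoetherian V.left := by
    let g : V.left ⟶ X := V.hom
    have : AlgebraicGeometry.Etale g := V.prop
    exact LocallyOfFiniteType.isLocallyNoetherian g
  obtain ⟨W, hpW, hW⟩ := exists_open_components (X := V.left) (hC.preimage V.hom.continuous) (ptOf v)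
  refine ⟨⟨V.hom.base '' (W : Set V.left), V.hom.isOpenMap (W : Set V.left) W.2⟩, k₀,
    ⟨ptOf v, hpW, (hom_ptOf v).trans hξ⟩, fun k hk Ω _ _ ζ ⟨q, hqW, hq⟩ hqC => ?_⟩
  obtain ⟨K, _, _, θ, z, hz⟩ := exists_algClosed_point V q
  have hθ : θ.base (default : Spec (CommRingCat.of K)) = ζ.base (default : Spec (CommRingCat.of Ω)) :=
    (base_of_point z).symm.trans ((congrArg _ hz).trans hq)
  refine rng_le_congr _ _ ζ hθ ?_
  obtain ⟨g, hgC, hgp, hgq⟩ := hW q hqW (show V.hom.base q ∈ C from hq.symm ▸ hqC)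
  have hg0 : g = ptOf v := eq_of_specializes V hgp
    ((hmax _ hgC ((hgp.map V.hom.continuous).trans (specializes_of_eq ((hom_ptOf v).trans hξ)))).trans
      ((hom_ptOf v).trans hξ).symm)
  obtain ⟨χ, hχ⟩ := exists_pointHom θ ξ z v
    ((specializes_of_eq hg0.symm).trans (hgq.trans (specializes_of_eq hz.symm)))
  let S := GrothendieckTopology.Point.Hom.sheafFiber (A := ModuleCat.{u + 1} Λ) χ
  rintro _ ⟨y, rfl⟩
  obtain ⟨m, hmy⟩ := (hψ K θ z).2 ((EtModW.stalk Λ θ).map (a k) y)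
  have h1 : S.app G ((EtModW.stalk Λ θ).map (a k) y) = germL G v (ψ m) := by
    rw [← hmy, ← hχ]
    exact ConcreteCategory.congr_hom (pointHom_germ (ModuleCat.{u + 1} Λ) χ G.obj V z) (ψ m)
  have h2 : germL G v (ψ m) = εM m := by
    refine (germL_map G (g₂ ≫ g₁) v (φ m)).trans ?_
    rw [Functor.map_comp_apply, hv, hv₁]
    rfl
  have h3 : m ∈ N := by
    show εM m ∈ rng (a k₀) ξ
    rw [← h2, ← h1]
    exact (hk₀ k hk).ge ⟨S.app (H k) y, (NatTrans.naturality_apply S (a k) y).symm⟩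
  have h4 := hgen K θ z ⟨m, h3⟩
  exact Eq.subst (motive := fun c => c ∈ rng (a k₀) θ) hmy h4

/-- an increasing family of images in a locally constant sheaf on a noetherian scheme stabilises -/
theorem exists_stable [IsNoetherianRing Λ] [IsNoetherian X] {G : EtModW.Mod Λ X} (hG : EtModW.IsFTLocConst Λ G)
    {H : ℕ → EtModW.Mod Λ X} (a : ∀ k, H k ⟶ G) (hmono : ∀ {k l : ℕ}, k ≤ l → ∃ e : H k ⟶ H l, e ≫ a l = a k) :
    ∃ k₀ : ℕ, ∀ k, k₀ ≤ k → ∀ (Ω : Type u) [Field Ω] [IsSepClosed Ω] (ζ : Spec (CommRingCat.of Ω) ⟶ X),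
      rng (a k) ζ ≤ rng (a k₀) ζ := by
  suffices key : ∀ C : Closeds X, ∃ k₀ : ℕ, ∀ k, k₀ ≤ k → ∀ (Ω : Type u) [Field Ω] [IsSepClosed Ω]
      (ζ : Spec (CommRingCat.of Ω) ⟶ X), ζ.base (default : Spec (CommRingCat.of Ω)) ∈ C → rng (a k) ζ ≤ rng (a k₀) ζ by
    obtain ⟨k₀, h⟩ := key ⊤
    exact ⟨k₀, fun k hk Ω _ _ ζ => h k hk Ω ζ trivial⟩
  intro C
  induction C using WellFoundedLT.induction with
  | _ C ih =>
    by_cases hne : (C : Set X).Nonempty
    · obtain ⟨y, hy⟩ := hne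
      haveI : QuasiSober (C : Set X) := C.2.isClosedEmbedding_subtypeVal.quasiSober
      have hcomp := irreducibleComponent_mem_irreducibleComponents (⟨y, hy⟩ : (C : Set X))
      have hgen := hcomp.1.isGenericPoint_genericPoint_closure
      rw [(isClosed_of_mem_irreducibleComponents _ hcomp).closure_eq] at hgen
      let η := hcomp.1.genericPoint
      have hmax : ∀ g ∈ (C : Set X), g ⤳ η.1 → g = η.1 := fun g hg hgη => by
        let g' : (C : Set X) := ⟨g, hg⟩
        have h1 : g' ⤳ η := (Topology.IsInducing.subtypeVal.specializes_iff).1 hgη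
        have h2 : irreducibleComponent (⟨y, hy⟩ : (C : Set X)) ⊆ closure {g'} := by
          rw [← hgen.def]
          exact closure_minimal (Set.singleton_subset_iff.2 (specializes_iff_mem_closure.1 h1)) isClosed_closure
        have h3 := hcomp.2 isIrreducible_singleton.closure h2 (subset_closure rfl)
        have h4 : η ⤳ g' := hgen.specializes h3
        exact congrArg Subtype.val (h1.antisymm h4).eq
      obtain ⟨O, k₁, hO, h₁⟩ := exists_stable_nhd hG a hmono C.2 hmax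
      let C' : Closeds X := ⟨(C : Set X) \ O, C.2.sdiff O.2⟩
      have hlt : C' < C := by
        refine lt_of_le_of_ne Set.sdiff_subset fun e => ?_
        exact ((congrArg (fun D : Closeds X => η.1 ∈ D) e).mpr η.2).2 hO
      obtain ⟨k₂, h₂⟩ := ih C' hlt
      refine ⟨max k₁ k₂, fun k hk Ω _ _ ζ hζ => ?_⟩
      by_cases hζO : ζ.base (default : Spec (CommRingCat.of Ω)) ∈ O
      · obtain ⟨e, he⟩ := hmono (le_max_left k₁ k₂)
        exact (h₁ k ((le_max_left _ _).trans hk) Ω ζ hζO hζ).trans (rng_le_of_fac e he ζ)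
      · obtain ⟨e, he⟩ := hmono (le_max_right k₁ k₂)
        exact (h₂ k ((le_max_right _ _).trans hk) Ω ζ ⟨hζ, hζO⟩).trans (rng_le_of_fac e he ζ)
    · exact ⟨0, fun k _ Ω _ _ ζ hζ => absurd ⟨_, hζ⟩ hne⟩

/-- constructible sheaves of modules on a noetherian scheme are noetherian objects -/
theorem isNoetherianObject_of_isConstructible [IsNoetherianRing Λ] [IsNoetherian X] {F : EtModW.Mod Λ X}
    (hF : EtModW.IsConstructible Λ F) : IsNoetherianObject F := by
  rw [isNoetherianObject_iff_monotone_chain_condition]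
  intro Z
  let a : ∀ k, ((Z k : Subobject F) : EtModW.Mod Λ X) ⟶ F := fun k => (Z k).arrow
  have hfac : ∀ {k l : ℕ}, k ≤ l → ∃ e, e ≫ a l = a k := fun h => ⟨Subobject.ofLE _ _ (Z.monotone h), Subobject.ofLE_arrow _⟩
  have hloc : ∀ x : X, ∃ (A : X.Opens), x ∈ A ∧ ∃ k₀ : ℕ, ∀ k, k₀ ≤ k → ∀ (Ω : Type u) [Field Ω] [IsSepClosed Ω]
      (ζ : Spec (CommRingCat.of Ω) ⟶ X), ζ.base (default : Spec (CommRingCat.of Ω)) ∈ A →
        rng (a k) ζ ≤ rng (a k₀) ζ := by
    intro x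
    obtain ⟨A, hA, hxA, -⟩ := exists_isAffineOpen_mem_and_subset (U := (⊤ : X.Opens)) (x := x) trivial
    obtain ⟨n, T, g, hg, -, -, hu, hT⟩ := hF A hA
    have hTk : ∀ i, ∃ k₀ : ℕ, ∀ k, k₀ ≤ k → ∀ (Ω : Type u) [Field Ω] [IsSepClosed Ω]
        (ζ : Spec (CommRingCat.of Ω) ⟶ T i), rng ((EtModW.pull Λ (g i)).map (a k)) ζ ≤
          rng ((EtModW.pull Λ (g i)).map (a k₀)) ζ := fun i => by
      haveI : IsLocallyNoetherian (T i) := LocallyOfFiniteType.isLocallyNoetherian (g i)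
      haveI : CompactSpace (T i) := by
        haveI := (g i).isEmbedding.isInducing.noetherianSpace
        infer_instance
      haveI : IsNoetherian (T i) := {}
      refine exists_stable (hT i) (fun k => (EtModW.pull Λ (g i)).map (a k)) fun h => ?_
      obtain ⟨e, he⟩ := hfac h
      exact ⟨(EtModW.pull Λ (g i)).map e, (Functor.map_comp _ _ _).symm.trans (congrArg _ he)⟩
    choose k₀ hk₀ using hTk
    obtain ⟨K, hK⟩ := Set.Finite.bddAbove (Set.finite_range k₀)
    refine ⟨A, hxA, K, fun k hk Ω _ _ ζ hζ => ?_⟩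
    obtain ⟨i, t, ht⟩ := Set.mem_iUnion.1 (hu.ge hζ)
    obtain ⟨L, _, _, τ, rfl⟩ := exists_geomPoint t
    refine rng_le_congr _ _ ζ ((Scheme.Hom.comp_apply _ _ _).trans ht : (τ ≫ g i).base _ = _) ?_
    obtain ⟨e, he⟩ := hfac (hK ⟨i, rfl⟩ : k₀ i ≤ K)
    refine le_trans ?_ (rng_le_of_fac e he _)
    have hk' := hk₀ i k ((hK ⟨i, rfl⟩).trans hk) L τ
    let β := (sheafFiberPullIso (A := ModuleCat.{u + 1} Λ) (g i) τ)
    rintro _ ⟨y, rfl⟩
    obtain ⟨w, hw⟩ := hk' ⟨β.inv.app _ y, rfl⟩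
    refine ⟨β.hom.app _ w, ?_⟩
    refine (NatTrans.naturality_apply β.hom (a (k₀ i)) w).symm.trans ?_
    refine (congrArg (β.hom.app F) hw).trans ?_
    refine (NatTrans.naturality_apply β.hom (a k) (β.inv.app _ y)).trans (congrArg _ ?_)
    exact ((ConcreteCategory.comp_apply _ _ _).symm.trans
      (ConcreteCategory.congr_hom (β.inv_hom_id_app _) y)).trans (ConcreteCategory.id_apply y)
  choose A hA k₀ hk₀ using hloc
  obtain ⟨t, ht⟩ := isCompact_univ.elim_finite_subcover (fun x => (A x : Set X)) (fun x => (A x).2)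
    fun x _ => Set.mem_iUnion.2 ⟨x, hA x⟩
  refine ⟨t.sup k₀, fun m hm => ?_⟩
  have hepi : ∀ (Ω : Type u) [Field Ω] [IsSepClosed Ω] (ζ : Spec (CommRingCat.of Ω) ⟶ X),
      IsIso ((EtModW.stalk Λ ζ).map (Subobject.ofLE _ _ (Z.monotone hm))) := fun Ω _ _ ζ => by
    obtain ⟨x, hx⟩ := Set.mem_iUnion.1 (ht (Set.mem_univ (ζ.base (default : Spec (CommRingCat.of Ω)))))
    obtain ⟨hxt, hx⟩ := Set.mem_iUnion.1 hx
    have hinj : Function.Injective ((EtModW.stalk Λ ζ).map (a m)) :=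
      (ModuleCat.mono_iff_injective _).1 inferInstance
    have hinj0 : Function.Injective ((EtModW.stalk Λ ζ).map (a (t.sup k₀))) :=
      (ModuleCat.mono_iff_injective _).1 inferInstance
    have hcomp : ∀ y, (EtModW.stalk Λ ζ).map (a m) ((EtModW.stalk Λ ζ).map (Subobject.ofLE _ _ (Z.monotone hm)) y) =
        (EtModW.stalk Λ ζ).map (a (t.sup k₀)) y := fun y =>
      (ConcreteCategory.comp_apply _ _ _).symm.trans (ConcreteCategory.congr_hom
        (((EtModW.stalk Λ ζ).map_comp _ _).symm.trans (congrArg _ (Subobject.ofLE_arrow (Z.monotone hm)))) y)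
    refine (ConcreteCategory.isIso_iff_bijective _).2 ⟨fun y y' hyy => hinj0 ?_, fun z => ?_⟩
    · rw [← hcomp, ← hcomp, hyy]
    · obtain ⟨e, he⟩ := hfac (Finset.le_sup hxt : k₀ x ≤ t.sup k₀)
      obtain ⟨y, hy⟩ := rng_le_of_fac e he ζ (hk₀ x m ((Finset.le_sup hxt).trans hm) Ω ζ hx ⟨z, rfl⟩)
      exact ⟨y, hinj ((hcomp y).trans hy)⟩
  haveI : IsIso (Subobject.ofLE (Z (t.sup k₀)) (Z m) (Z.monotone hm)) :=
    isIso_of_stalks (A := ModuleCat.{u + 1} Λ) _ fun Ω iF iS ζ =>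
      (ConcreteCategory.isIso_iff_bijective _).1 (hepi Ω ζ)
  refine le_antisymm (Z.monotone hm) (Subobject.le_of_comm (inv (Subobject.ofLE _ _ (Z.monotone hm))) ?_)
  rw [IsIso.inv_comp_eq, Subobject.ofLE_arrow]

end Groth.Agent.ModWLib
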