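import Groth.Agent.ARLib.Adic
import Mathlib.Algebra.Category.ModuleCat.Abelian
import Mathlib.RingTheory.MvPolynomial.Homogeneous
import Mathlib.RingTheory.Polynomial.Basic
import Mathlib.RingTheory.Ideal.Maps

/-! relations of the graded object of an adic system of modules -/

set_option autoImplicit false
set_option linter.style.haveILetI false
set_option linter.unusedSectionVars false

universe w

open CategoryTheory CategoryTheory.Limits Opposite ARSys MvPolynomial

namespace Groth.Agent.ModWLib

set_option backward.isDefEq.respectTransparency.types false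

variable {A : Type w} [CommRing A] {I : Ideal A} {Y Y' : ARSys.PS (ModuleCat.{w} A)}

/-- the transition map as a linear map -/
noncomputable abbrev trL (Y : ARSys.PS (ModuleCat.{w} A)) {k n : ℕ} (h : k ≤ n) :
    Y.obj (op n) →ₗ[A] Y.obj (op k) := (tr Y h).hom

theorem trL_trL (Y : ARSys.PS (ModuleCat.{w} A)) {a b c : ℕ} (h : a ≤ b) (h' : b ≤ c) (x : Y.obj (op c)) :
    trL Y h (trL Y h' x) = trL Y (h.trans h') x :=
  (ConcreteCategory.comp_apply _ _ _).symm.trans (ConcreteCategory.congr_hom (ARLib.tr_tr Y h h') x)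

theorem trL_refl (Y : ARSys.PS (ModuleCat.{w} A)) {n : ℕ} (h : n ≤ n) (x : Y.obj (op n)) : trL Y h x = x := by
  show tr Y h x = x
  rw [ARLib.tr_refl]
  rfl

theorem trL_surjective (hY : IsAdic I Y) {k n : ℕ} (h : k ≤ n) : Function.Surjective (trL Y h) :=
  (ModuleCat.epi_iff_surjective _).1 (ARLib.isStrict_of_isAdic hY k n h)

theorem mem_smul_of_trL_eq_zero (hY : IsAdic I Y) {k n : ℕ} (h : k ≤ n) {x : Y.obj (op n)} (hx : trL Y h x = 0) :
    x ∈ I ^ (k + 1) • (⊤ : Submodule A (Y.obj (op n))) := by
  let Q := Submodule.mkQ (I ^ (k + 1) • (⊤ : Submodule A (Y.obj (op n))))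
  obtain ⟨ψ, hψ, -⟩ := (hY.2 k n h).2 (ModuleCat.of A _) (ModuleCat.ofHom Q) fun a ha => by
    refine ModuleCat.hom_ext (LinearMap.ext fun y => ?_)
    show a • Q y = 0
    rw [← map_smul]
    exact (Submodule.Quotient.mk_eq_zero _).2 (Submodule.smul_mem_smul ha trivial)
  refine (Submodule.Quotient.mk_eq_zero _).1 ?_
  refine (ConcreteCategory.congr_hom hψ x).symm.trans ?_
  exact (ConcreteCategory.comp_apply _ _ _).trans ((congrArg ψ hx).trans (map_zero _))

theorem smul_eq_zero_of_killed (hY : TermKilled I Y) {n : ℕ} {c : A} (hc : c ∈ I ^ (n + 1)) (x : Y.obj (op n)) :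
    c • x = 0 := ConcreteCategory.congr_hom (hY n c hc) x

theorem smul_eq_zero_of_mem (hY : TermKilled I Y) {n k : ℕ} {c : A} (hc : c ∈ I ^ k) {x : Y.obj (op n)} {l : ℕ}
    (hkl : n + 1 ≤ k + l) (hx : x ∈ I ^ l • (⊤ : Submodule A (Y.obj (op n)))) : c • x = 0 := by
  refine Submodule.smul_induction_on hx (fun b hb y _ => ?_) fun a b ha hb => by rw [smul_add, ha, hb, add_zero]
  rw [smul_smul]
  refine smul_eq_zero_of_killed hY (Ideal.pow_le_pow_right hkl ?_) y
  rw [pow_add]
  exact Ideal.mul_mem_mul hc hb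

theorem smul_congr_of_trL (hY : IsAdic I Y) {n : ℕ} {c : A} (hc : c ∈ I ^ n) {x y : Y.obj (op n)}
    (h : trL Y (Nat.zero_le n) x = trL Y (Nat.zero_le n) y) : c • x = c • y := by
  rw [← sub_eq_zero, ← smul_sub]
  refine smul_eq_zero_of_mem hY.1 hc le_rfl (mem_smul_of_trL_eq_zero hY (Nat.zero_le n) ?_)
  rw [map_sub, h, sub_self]

variable {m : ℕ} {a : Fin m → A}

theorem eval_mem_pow (ha : ∀ i, a i ∈ I) {n : ℕ} {p : MvPolynomial (Fin m) A} (hp : p.IsHomogeneous n) :
    eval a p ∈ I ^ n := by
  rw [eval_eq]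
  refine Ideal.sum_mem _ fun d hd => Ideal.mul_mem_left _ _ ?_
  have hdeg : d.degree = n := by
    by_contra hne
    exact (MvPolynomial.mem_support_iff.1 hd) (hp.coeff_eq_zero hne)
  rw [← hdeg, Finsupp.degree_apply, ← Finset.prod_pow_eq_pow_sum]
  exact Ideal.prod_mem_prod fun i _ => Ideal.pow_mem_pow (ha i) _

theorem exists_homogeneous_eval (hI : I = Ideal.span (Set.range a)) {n : ℕ} {c : A} (hc : c ∈ I ^ n) :
    ∃ p : MvPolynomial (Fin m) A, p.IsHomogeneous n ∧ eval a p = c := by
  induction n generalizing c with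
  | zero => exact ⟨C c, isHomogeneous_C _ _, eval_C c⟩
  | succ n ih =>
    rw [pow_succ] at hc
    refine Submodule.mul_induction_on hc (fun x hx y hy => ?_) fun x y ⟨p, hp, hpe⟩ ⟨q, hq, hqe⟩ =>
      ⟨p + q, hp.add hq, by rw [map_add, hpe, hqe]⟩
    obtain ⟨p, hp, rfl⟩ := ih hx
    rw [hI, Ideal.mem_span_range_iff_exists_fun] at hy
    obtain ⟨c', rfl⟩ := hy
    refine ⟨∑ i, p * (C (c' i) * X i), IsHomogeneous.sum _ _ _ fun i _ => hp.mul ((isHomogeneous_X _ i).C_mul _), ?_⟩
    simp [Finset.mul_sum]

theorem eval_hc_X_mul (i : Fin m) (q : ℕ) (p : MvPolynomial (Fin m) A) :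
    eval a (homogeneousComponent (q + 1) (X i * p)) = a i * eval a (homogeneousComponent q p) := by
  conv_lhs => rw [← sum_homogeneousComponent p]
  rw [Finset.mul_sum, map_sum, map_sum]
  rw [Finset.sum_eq_single q]
  · rw [homogeneousComponent_eq_self (add_comm 1 q ▸ (isHomogeneous_X A i).mul (homogeneousComponent_isHomogeneous q p)),
      map_mul, eval_X]
  · intro k _ hk
    rw [homogeneousComponent_of_mem (add_comm 1 k ▸ (isHomogeneous_X A i).mul (homogeneousComponent_isHomogeneous k p)),
      if_neg (by omega), map_zero]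
  · intro hq
    rw [homogeneousComponent_eq_zero q p (by simpa using hq)]
    simp

theorem eval_hc_zero_X_mul (i : Fin m) (p : MvPolynomial (Fin m) A) :
    eval a (homogeneousComponent 0 (X i * p)) = 0 := by
  rw [homogeneousComponent_zero]
  simp [← constantCoeff_eq]

variable (Y a) in
/-- the value in degree `q` of a vector of polynomials -/
noncomputable def evalAt {r : ℕ} (q : ℕ) (l : Fin r → Y.obj (op q)) (p : Fin r → MvPolynomial (Fin m) A) :
    Y.obj (op q) := ∑ j, eval a (homogeneousComponent q (p j)) • l j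

theorem evalAt_congr (hY : IsAdic I Y) (ha : ∀ i, a i ∈ I) {r q : ℕ} {l l' : Fin r → Y.obj (op q)}
    (h : ∀ j, trL Y (Nat.zero_le q) (l j) = trL Y (Nat.zero_le q) (l' j)) (p : Fin r → MvPolynomial (Fin m) A) :
    evalAt Y a q l p = evalAt Y a q l' p :=
  Finset.sum_congr rfl fun j _ =>
    smul_congr_of_trL hY (eval_mem_pow ha (homogeneousComponent_isHomogeneous q (p j))) (h j)

/-- vectors of polynomials vanishing on given generators in every degree -/
noncomputable def relMod (hY : IsAdic I Y) (ha : ∀ i, a i ∈ I) {r : ℕ} (e : Fin r → Y.obj (op 0)) :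
    Submodule (MvPolynomial (Fin m) A) (Fin r → MvPolynomial (Fin m) A) where
  carrier := {p | ∀ q (l : Fin r → Y.obj (op q)), (∀ j, trL Y (Nat.zero_le q) (l j) = e j) → evalAt Y a q l p = 0}
  zero_mem' q l _ := by simp [evalAt]
  add_mem' {p p'} hp hp' q l hl := by
    have h : evalAt Y a q l (p + p') = evalAt Y a q l p + evalAt Y a q l p' := by
      simp [evalAt, map_add, add_smul, Finset.sum_add_distrib]
    rw [h, hp q l hl, hp' q l hl, add_zero]
  smul_mem' c p hp := by
    induction c using MvPolynomial.induction_on generalizing p with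
    | C c =>
      intro q l hl
      have h : evalAt Y a q l ((C c : MvPolynomial (Fin m) A) • p) = c • evalAt Y a q l p := by
        simp [evalAt, homogeneousComponent_C_mul, Finset.smul_sum, mul_smul]
      rw [h, hp q l hl, smul_zero]
    | add c c' hc hc' =>
      intro q l hl
      have h : evalAt Y a q l ((c + c') • p) = evalAt Y a q l (c • p) + evalAt Y a q l (c' • p) := by
        simp [evalAt, add_mul, map_add, add_smul, Finset.sum_add_distrib]
      rw [h, hc p hp q l hl, hc' p hp q l hl, add_zero]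
    | mul_X c i hc =>
      rw [mul_smul]
      refine hc _ ?_
      intro q l hl
      rcases q with _ | q
      · simp only [evalAt, Pi.smul_apply, smul_eq_mul, eval_hc_zero_X_mul, zero_smul, Finset.sum_const_zero]
      · have h : evalAt Y a (q + 1) l ((X i : MvPolynomial (Fin m) A) • p) = a i • ∑ j, eval a (homogeneousComponent q (p j)) • l j := by
          simp only [evalAt, Pi.smul_apply, smul_eq_mul, eval_hc_X_mul, mul_smul, Finset.smul_sum]
        rw [h]
        refine smul_eq_zero_of_mem hY.1 (k := 1) (l := q + 1) (by rw [pow_one]; exact ha i) (by omega)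
          (mem_smul_of_trL_eq_zero hY (Nat.le_succ q) ?_)
        rw [map_sum]
        simp only [map_smul]
        exact hp q _ fun j => (trL_trL Y _ _ (l j)).trans (hl j)

theorem mem_relMod (hY : IsAdic I Y) (ha : ∀ i, a i ∈ I) {r : ℕ} {e : Fin r → Y.obj (op 0)}
    {p : Fin r → MvPolynomial (Fin m) A} :
    p ∈ relMod hY ha e ↔ ∀ q (l : Fin r → Y.obj (op q)), (∀ j, trL Y (Nat.zero_le q) (l j) = e j) → evalAt Y a q l p = 0 :=
  Iff.rfl

/-- a map of adic systems surjective in degree zero is surjective -/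
theorem surjective_of_zero (hY : IsAdic I Y) (hY' : IsAdic I Y') (S : Y ⟶ Y')
    (h0 : Function.Surjective (S.app (op 0))) : ∀ n, Function.Surjective (S.app (op n)) := by
  intro n
  induction n with
  | zero => exact h0
  | succ n ih =>
    have nat : ∀ {k l : ℕ} (h : k ≤ l) (y : Y.obj (op l)), trL Y' h (S.app (op l) y) = S.app (op k) (trL Y h y) :=
      fun h y => (NatTrans.naturality_apply S (homOfLE h).op y).symm
    have key : ∀ y ∈ I ^ (n + 1) • (⊤ : Submodule A (Y'.obj (op (n + 1)))),
        y ∈ LinearMap.range (S.app (op (n + 1))).hom := fun y hy => by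
      refine Submodule.smul_induction_on hy (fun c hc z _ => ?_) fun u v hu hv => Submodule.add_mem _ hu hv
      obtain ⟨w0, hw0⟩ := h0 (trL Y' (Nat.zero_le _) z)
      obtain ⟨w1, rfl⟩ := trL_surjective hY (Nat.zero_le (n + 1)) w0
      refine ⟨c • w1, (map_smul _ _ _).trans (smul_congr_of_trL hY' hc ?_)⟩
      exact (nat _ _).trans hw0
    intro y
    obtain ⟨x0, hx0⟩ := ih (trL Y' (Nat.le_succ n) y)
    obtain ⟨x1, rfl⟩ := trL_surjective hY (Nat.le_succ n) x0
    obtain ⟨x2, hx2⟩ := key (y - S.app (op (n + 1)) x1) (mem_smul_of_trL_eq_zero hY' (Nat.le_succ n) (by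
      rw [map_sub, nat]
      exact sub_eq_zero.2 hx0.symm))
    exact ⟨x1 + x2, (map_add _ _ _).trans ((congrArg (S.app (op (n + 1)) x1 + ·) hx2).trans (add_sub_cancel _ _))⟩

/-- a map of adic systems injective in degree zero and not creating relations is injective -/
theorem injective_of_relMod (hY : IsAdic I Y) (hY' : IsAdic I Y') (ha : ∀ i, a i ∈ I)
    (hI : I = Ideal.span (Set.range a)) (S : Y ⟶ Y') (h0 : Function.Injective (S.app (op 0))) {r : ℕ}
    (e : Fin r → Y.obj (op 0)) (he : Submodule.span A (Set.range e) = ⊤)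
    (hrel : relMod hY' ha (fun j => S.app (op 0) (e j)) ≤ relMod hY ha e) :
    ∀ n, Function.Injective (S.app (op n)) := by
  intro n
  induction n with
  | zero => exact h0
  | succ n ih =>
    have nat : ∀ {k l : ℕ} (h : k ≤ l) (y : Y.obj (op l)), trL Y' h (S.app (op l) y) = S.app (op k) (trL Y h y) :=
      fun h y => (NatTrans.naturality_apply S (homOfLE h).op y).symm
    choose l hl using fun j => trL_surjective hY (Nat.zero_le (n + 1)) (e j)
    have key : ∀ y ∈ I ^ (n + 1) • (⊤ : Submodule A (Y.obj (op (n + 1)))),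
        ∃ p : Fin r → MvPolynomial (Fin m) A, (∀ j, (p j).IsHomogeneous (n + 1)) ∧ ∑ j, eval a (p j) • l j = y := by
      intro y hy
      refine Submodule.smul_induction_on hy (fun c hc z _ => ?_) fun u v ⟨p, hp, hpu⟩ ⟨p', hp', hpv⟩ =>
        ⟨p + p', fun j => (hp j).add (hp' j), by simp [add_smul, Finset.sum_add_distrib, hpu, hpv]⟩
      have hz : trL Y (Nat.zero_le _) z ∈ Submodule.span A (Set.range e) := he ▸ trivial
      obtain ⟨lam, hlam⟩ := (Submodule.mem_span_range_iff_exists_fun A).1 hz
      choose p hp hpe using fun j => exists_homogeneous_eval (a := a) hI (Ideal.mul_mem_right (lam j) _ hc)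
      refine ⟨p, hp, ?_⟩
      simp only [hpe, mul_smul, ← Finset.smul_sum]
      refine smul_congr_of_trL hY hc ?_
      simp only [map_sum, map_smul, hl, hlam]
    refine (injective_iff_map_eq_zero _).2 fun x hx => ?_
    have hx1 : trL Y (Nat.le_succ n) x = 0 := ih (by
      rw [← nat (Nat.le_succ n) x, hx, map_zero, map_zero])
    obtain ⟨p, hp, rfl⟩ := key x (mem_smul_of_trL_eq_zero hY (Nat.le_succ n) hx1)
    have hmem : p ∈ relMod hY' ha (fun j => S.app (op 0) (e j)) := by
      intro q l' hl'
      by_cases hq : q = n + 1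
      · subst hq
        rw [evalAt_congr hY' ha (l' := fun j => S.app (op (n + 1)) (l j))
          (fun j => (hl' j).trans ((congrArg _ (hl j)).symm.trans (nat _ _).symm)) p]
        refine Eq.trans ?_ hx
        rw [map_sum]
        exact Finset.sum_congr rfl fun j _ => by rw [homogeneousComponent_eq_self (hp j), map_smul]
      · refine Finset.sum_eq_zero fun j _ => ?_
        rw [homogeneousComponent_of_mem (hp j), if_neg hq, map_zero, zero_smul]
    have h := hrel hmem (n + 1) l hl
    refine Eq.trans (Finset.sum_congr rfl fun j _ => ?_) h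
    rw [homogeneousComponent_eq_self (hp j)]

end Groth.Agent.ModWLib
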