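import Groth.Prelude.Def_EtMod2
import Groth.Agent.EtFound.Strata
import Groth.Agent.EtFound.NoethACC

/-! finite type locally constant and constructible sheaves of modules: inverse images and stalks -/

set_option autoImplicit false
set_option linter.unusedSectionVars false
set_option linter.style.haveILetI false

universe u

open CategoryTheory CategoryTheory.Limits AlgebraicGeometry Opposite Topology Groth.Agent.EtFound

namespace Groth.Agent.ModWLib

set_option backward.isDefEq.respectTransparency.types false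

variable {Λ : Type (u + 1)} [CommRing Λ]

instance : PreservesFilteredColimitsOfSize.{u, u} (forget (ModuleCat.{u + 1} Λ)) :=
  preservesFilteredColimitsOfSize_of_univLE.{u + 1, u + 1, u, u} _

instance : HasProducts.{u} (ModuleCat.{u + 1} Λ) := fun J => by
  haveI : HasLimitsOfSize.{u, u} (ModuleCat.{u + 1} Λ) := ModuleCat.hasLimitsOfSize.{u, u, u + 1, u + 1}
  infer_instance

/-- finite type local constancy transports along isomorphisms -/
theorem isFTLocConst_of_iso {X : Scheme.{u}} {F G : EtModW.Mod Λ X} (e : F ≅ G)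
    (h : EtModW.IsFTLocConst Λ F) : EtModW.IsFTLocConst Λ G := by
  obtain ⟨ι, U, hU, hF⟩ := h
  refine ⟨ι, U, hU, fun i => ?_⟩
  obtain ⟨M, iM, iM', fM, ⟨a⟩⟩ := hF i
  exact ⟨M, iM, iM', fM, ⟨((X.smallEtaleTopology.overPullback (ModuleCat.{u + 1} Λ) (U i)).mapIso e).symm ≪≫ a⟩⟩

/-- inverse image preserves finite type local constancy -/
theorem isFTLocConst_pull {X Y : Scheme.{u}} (f : X ⟶ Y) {G : EtModW.Mod Λ Y}
    (h : EtModW.IsFTLocConst Λ G) : EtModW.IsFTLocConst Λ ((EtModW.pull Λ f).obj G) := by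
  obtain ⟨ι, U, hU, hG⟩ := h
  refine ⟨ι, _, covers_bc f hU, fun i => ?_⟩
  obtain ⟨M, iM, iM', fM, e⟩ := hG i
  exact ⟨M, iM, iM', fM, nonempty_restr_pull_iso f e⟩

/-- the adjunction between inverse and direct image of sheaves of modules -/
noncomputable abbrev pullPushModAdj (Λ : Type (u + 1)) [CommRing Λ] {X Y : Scheme.{u}} (f : X ⟶ Y) :
    EtModW.pull Λ f ⊣ EtModW.push Λ f :=
  (EtCoh.bc f).sheafAdjunctionContinuous (ModuleCat.{u + 1} Λ) Y.smallEtaleTopology X.smallEtaleTopology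

variable (Λ) in
/-- direct images compose -/
noncomputable def pushCompMod {X Y Z : Scheme.{u}} (f : X ⟶ Y) (g : Z ⟶ X) :
    EtModW.push Λ g ⋙ EtModW.push Λ f ≅ EtModW.push Λ (g ≫ f) :=
  Functor.sheafPushforwardContinuousComp' (F := EtCoh.bc f) (G := EtCoh.bc g) (FG := EtCoh.bc (g ≫ f))
    ((MorphismProperty.Over.pullbackComp (P := EtCoh.etaleMP) (Q := ⊤) g f).symm :
      EtCoh.bc f ⋙ EtCoh.bc g ≅ EtCoh.bc (g ≫ f))
    (ModuleCat.{u + 1} Λ) Y.smallEtaleTopology X.smallEtaleTopology Z.smallEtaleTopology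

variable (Λ) in
/-- inverse images compose -/
noncomputable def pullCompMod {X Y Z : Scheme.{u}} (h : X ⟶ Y) (f : Y ⟶ Z) :
    EtModW.pull Λ (h ≫ f) ≅ EtModW.pull Λ f ⋙ EtModW.pull Λ h :=
  Adjunction.leftAdjointUniq (pullPushModAdj Λ (h ≫ f))
    (((pullPushModAdj Λ f).comp (pullPushModAdj Λ h)).ofNatIsoRight (pushCompMod Λ f h))

/-- a subset on which the sheaf is finite locally constant -/
def IsPiece {X : Scheme.{u}} (F : EtModW.Mod Λ X) (S : Set X) : Prop :=
  ∃ (T : Scheme.{u}) (g : T ⟶ X), IsImmersion g ∧ Set.range g.base = S ∧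
    EtModW.IsFTLocConst Λ ((EtModW.pull Λ g).obj F)

theorem IsPiece.isLocallyClosed {X : Scheme.{u}} {F : EtModW.Mod Λ X} {S : Set X} (h : IsPiece F S) :
    IsLocallyClosed S := by
  obtain ⟨T, g, hg, rfl, -⟩ := h
  exact g.isLocallyClosed_range

theorem IsPiece.of_iso {X : Scheme.{u}} {F G : EtModW.Mod Λ X} (e : F ≅ G) {S : Set X} (h : IsPiece F S) :
    IsPiece G S := by
  obtain ⟨T, g, hg, hr, hT⟩ := h
  exact ⟨T, g, hg, hr, isFTLocConst_of_iso ((EtModW.pull Λ g).mapIso e) hT⟩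

theorem IsPiece.mono {X : Scheme.{u}} {F : EtModW.Mod Λ X} {S S' : Set X} (h : IsPiece F S) (hle : S' ⊆ S)
    (hlc : IsLocallyClosed S') : IsPiece F S' := by
  obtain ⟨T, g, hg, rfl, hT⟩ := h
  obtain ⟨T', g', hg', hr⟩ := exists_immersion_range (hlc.preimage g.continuous)
  refine ⟨T', g' ≫ g, inferInstance, ?_,
    isFTLocConst_of_iso ((pullCompMod Λ g' g).app F).symm (isFTLocConst_pull g' hT)⟩
  rw [Scheme.Hom.comp_base, TopCat.coe_comp, Set.range_comp, hr]
  exact Set.image_preimage_eq_of_subset hle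

theorem IsPiece.preimage {X Y : Scheme.{u}} (f : X ⟶ Y) {F : EtModW.Mod Λ Y} {S : Set Y} (h : IsPiece F S) :
    IsPiece ((EtModW.pull Λ f).obj F) (f.base ⁻¹' S) := by
  obtain ⟨T, g, hg, rfl, hT⟩ := h
  refine ⟨pullback f g, pullback.fst f g, MorphismProperty.pullback_fst _ _ hg, ?_, ?_⟩
  · exact Scheme.Pullback.range_fst f g
  · have h1 := isFTLocConst_pull (pullback.snd f g) hT
    refine isFTLocConst_of_iso ?_ h1
    exact ((pullCompMod Λ (pullback.snd f g) g).app F).symm ≪≫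
      eqToIso (congrArg (fun k => (EtModW.pull Λ k).obj F) pullback.condition.symm) ≪≫
      (pullCompMod Λ (pullback.fst f g) f).app F

theorem IsPiece.image {X Y : Scheme.{u}} (i : X ⟶ Y) [IsImmersion i] {F : EtModW.Mod Λ Y} {S : Set X}
    (h : IsPiece ((EtModW.pull Λ i).obj F) S) : IsPiece F (i.base '' S) := by
  obtain ⟨T, g, hg, rfl, hT⟩ := h
  refine ⟨T, g ≫ i, inferInstance, ?_, isFTLocConst_of_iso ((pullCompMod Λ g i).app F).symm hT⟩
  rw [Scheme.Hom.comp_base, TopCat.coe_comp, Set.range_comp]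

/-- finitely many, possibly overlapping, constructible pieces give an adapted stratification -/
theorem adaptedStrata_of_cover {X : Scheme.{u}} {F : EtModW.Mod Λ X} {S : Set X} (hS : IsLocallyClosed S)
    {κ : Type*} [Finite κ] (E : κ → Set X) (hE : ∀ k, IsPiece F (E k))
    (hc : ∀ k, IsConstructible ((Subtype.val : S → X) ⁻¹' E k)) (hcov : S ⊆ ⋃ k, E k) :
    EtModW.AdaptedStrata Λ F S := by
  classical
  obtain ⟨n, P, hlc, hPc, hd, hu, hP⟩ := exists_lc_partition (fun k => (Subtype.val : S → X) ⁻¹' E k) hc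
  let J := {i : Fin n // (P i).Nonempty}
  let m := Fintype.card J
  let e : Fin m ≃ J := (Fintype.equivFin J).symm
  have hpiece : ∀ a : Fin m, IsPiece F (Subtype.val '' P (e a).1) := fun a => by
    obtain ⟨x, hx⟩ := (e a).2
    obtain ⟨k, hk⟩ := Set.mem_iUnion.1 (hcov x.2)
    refine (hE k).mono ?_ ((hlc _).image IsInducing.subtypeVal (by rwa [Subtype.range_coe]))
    rcases hP (e a).1 k with h | h
    · exact Set.image_subset_iff.2 h
    · exact absurd hk (Set.disjoint_left.1 h hx)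
  choose T g hg hr hT using hpiece
  refine ⟨m, T, g, hg, fun a => ?_, fun a b hab => ?_, ?_, fun a => hT a⟩
  · show IsConstructible ((Subtype.val : S → X) ⁻¹' Set.range (g a).base)
    rw [hr, Set.preimage_image_eq _ Subtype.val_injective]
    exact hPc _
  · show Disjoint (Set.range (g a).base) (Set.range (g b).base)
    rw [hr, hr]
    exact Set.disjoint_image_of_injective Subtype.val_injective (hd fun h => hab (e.injective (Subtype.ext h)))
  · show (⋃ a, Set.range (g a).base) = S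
    simp only [hr]
    refine Set.Subset.antisymm (Set.iUnion_subset fun a => ?_) fun x hx => ?_
    · exact (Set.image_subset_range _ _).trans (Subtype.range_coe).le
    · obtain ⟨i, hi⟩ := Set.mem_iUnion.1 (hu.ge (Set.mem_univ (⟨x, hx⟩ : S)))
      exact Set.mem_iUnion.2 ⟨e.symm ⟨i, _, hi⟩, ⟨x, hx⟩, by rwa [Equiv.apply_symm_apply], rfl⟩

/-- the strata of an adapted stratification, as pieces -/
theorem exists_pieces {X : Scheme.{u}} {F : EtModW.Mod Λ X} {S : Set X} (h : EtModW.AdaptedStrata Λ F S) :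
    ∃ (n : ℕ) (E : Fin n → Set X), (∀ k, IsPiece F (E k)) ∧
      (∀ k, IsConstructible ((Subtype.val : S → X) ⁻¹' E k)) ∧ (⋃ k, E k) = S := by
  obtain ⟨n, T, g, hg, hc, -, hu, hT⟩ := h
  exact ⟨n, fun i => Set.range (g i).base, fun i => ⟨T i, g i, hg i, rfl, hT i⟩, hc, hu⟩

/-- adapted stratifications restrict to smaller opens -/
theorem adaptedStrata_mono {X : Scheme.{u}} {F : EtModW.Mod Λ X} {U W : X.Opens} (h : EtModW.AdaptedStrata Λ F (U : Set X))
    (hle : W ≤ U) : EtModW.AdaptedStrata Λ F (W : Set X) := by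
  obtain ⟨n, E, hE, hc, hu⟩ := exists_pieces h
  refine adaptedStrata_of_cover W.2.isLocallyClosed (fun k => E k ∩ (W : Set X))
    (fun k => (hE k).mono Set.inter_subset_left ((hE k).isLocallyClosed.inter W.2.isLocallyClosed)) (fun k => ?_) ?_
  · have hi : IsOpenEmbedding (Set.inclusion (hle : (W : Set X) ⊆ U)) := .inclusion _
      (W.2.preimage continuous_subtype_val)
    have := (hc k).preimage_of_isOpenEmbedding hi
    convert this using 1
    ext x
    simp
  · intro x hx
    obtain ⟨k, hk⟩ := Set.mem_iUnion.1 (hu.ge (hle hx))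
    exact Set.mem_iUnion.2 ⟨k, hk, hx⟩

/-- adapted stratifications glue over finitely many quasi-compact opens -/
theorem adaptedStrata_of_opens {X : Scheme.{u}} {F : EtModW.Mod Λ X} {U : X.Opens} (hU : IsQuasiSeparated (U : Set X))
    {κ : Type*} [Finite κ] (V : κ → X.Opens) (hVU : ∀ k, V k ≤ U) (hV : ∀ k, IsCompact (V k : Set X))
    (hcov : (U : Set X) ⊆ ⋃ k, (V k : Set X)) (h : ∀ k, EtModW.AdaptedStrata Λ F (V k : Set X)) :
    EtModW.AdaptedStrata Λ F (U : Set X) := by
  choose n E hE hc hu using fun k => exists_pieces (h k)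
  have : QuasiSeparatedSpace ↥(U : Set X) :=
    (isQuasiSeparated_iff_quasiSeparatedSpace _ U.2).1 hU
  refine adaptedStrata_of_cover U.2.isLocallyClosed (fun p : Σ k, Fin (n k) => E p.1 p.2) (fun p => hE _ _)
    (fun p => ?_) ?_
  · have hi : IsOpenEmbedding (Set.inclusion (hVU p.1 : (V p.1 : Set X) ⊆ U)) := .inclusion _
      ((V p.1).2.preimage continuous_subtype_val)
    have hr : IsRetrocompact (Set.range (Set.inclusion (hVU p.1 : (V p.1 : Set X) ⊆ U))) := by
      refine IsCompact.isRetrocompact ?_ hi.isOpen_range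
      have : CompactSpace ↥(V p.1 : Set X) := isCompact_iff_compactSpace.1 (hV p.1)
      exact isCompact_range hi.continuous
    have h2 := (hc p.1 p.2).image_of_isOpenEmbedding hi hr
    convert h2 using 1
    ext x
    refine ⟨fun hx => ?_, ?_⟩
    · have hx' : x.1 ∈ (V p.1 : Set X) := (hu p.1).le (Set.mem_iUnion.2 ⟨p.2, hx⟩)
      exact ⟨⟨x.1, hx'⟩, hx, rfl⟩
    · rintro ⟨y, hy, rfl⟩
      exact hy
  · intro x hx
    obtain ⟨k, hk⟩ := Set.mem_iUnion.1 (hcov hx)
    obtain ⟨j, hj⟩ := Set.mem_iUnion.1 ((hu k).ge hk)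
    exact Set.mem_iUnion.2 ⟨⟨k, j⟩, hj⟩



/-- inverse images of constructible sheaves are constructible -/
theorem isConstructible_pull {X Y : Scheme.{u}} (f : X ⟶ Y) {F : EtModW.Mod Λ Y} (hF : EtModW.IsConstructible Λ F) :
    EtModW.IsConstructible Λ ((EtModW.pull Λ f).obj F) := by
  intro U hU
  have : ∀ x : (U : Set X), ∃ (W : X.Opens) (V : Y.Opens), IsAffineOpen W ∧ IsAffineOpen V ∧ W ≤ U ∧
      W ≤ f ⁻¹ᵁ V ∧ (x : X) ∈ W := fun x => by
    obtain ⟨V, hV, hxV, -⟩ := exists_isAffineOpen_mem_and_subset (U := (⊤ : Y.Opens)) (x := f.base x) trivial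
    obtain ⟨W, hW, hxW, hWle⟩ := exists_isAffineOpen_mem_and_subset (U := U ⊓ f ⁻¹ᵁ V) (x := (x : X)) ⟨x.2, hxV⟩
    exact ⟨W, V, hW, hV, fun y hy => (hWle hy).1, fun y hy => (hWle hy).2, hxW⟩
  choose W V hW hV hWU hWV hxW using this
  obtain ⟨t, ht⟩ := hU.isCompact.elim_finite_subcover (fun x => (W x : Set X)) (fun x => (W x).2)
    (fun x hx => Set.mem_iUnion.2 ⟨⟨x, hx⟩, hxW ⟨x, hx⟩⟩)
  refine adaptedStrata_of_opens hU.isQuasiSeparated (fun k : t => W k.1) (fun k => hWU _)
    (fun k => (hW _).isCompact) (fun x hx => ?_) fun k => ?_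
  · obtain ⟨k, hk⟩ := Set.mem_iUnion.1 (ht hx)
    obtain ⟨hkt, hk⟩ := Set.mem_iUnion.1 hk
    exact Set.mem_iUnion.2 ⟨⟨k, hkt⟩, hk⟩
  · obtain ⟨n, E, hE, hc, hu⟩ := exists_pieces (hF (V k.1) (hV _))
    refine adaptedStrata_of_cover (W k.1).2.isLocallyClosed (fun j => f.base ⁻¹' E j ∩ (W k.1 : Set X))
      (fun j => ((hE j).preimage f).mono Set.inter_subset_left
        (((hE j).isLocallyClosed.preimage f.continuous).inter (W k.1).2.isLocallyClosed)) (fun j => ?_) ?_
    · convert isConstructible_preimage_affine f (hW k.1) (hV k.1) (hWV k.1) (hc j) using 1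
      ext x
      simp
    · intro x hx
      obtain ⟨j, hj⟩ := Set.mem_iUnion.1 (hu.ge (hWV k.1 hx))
      exact Set.mem_iUnion.2 ⟨j, hj, hx⟩

end Groth.Agent.ModWLib
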