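import Groth.Agent.ModWLib.Stalk
import Groth.Agent.EtFound.Cospec

/-! specialisation maps of finite type locally constant sheaves of modules -/

set_option autoImplicit false
set_option linter.style.haveILetI false

universe u

open CategoryTheory CategoryTheory.Limits AlgebraicGeometry Opposite Groth.Agent.EtFound

namespace Groth.Agent.ModWLib

set_option backward.isDefEq.respectTransparency.types false

variable {Λ : Type (u + 1)} [CommRing Λ] {X : Scheme.{u}}

/-- morphisms of points act invertibly on finite type locally constant sheaves -/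
theorem isIso_sheafFiber_of_isFTLocConst {F : EtModW.Mod Λ X} (hF : EtModW.IsFTLocConst Λ F)
    {k k' : Type u} [Field k] [IsAlgClosed k] [Field k'] [IsAlgClosed k'] {η : Spec (CommRingCat.of k) ⟶ X}
    {η' : Spec (CommRingCat.of k') ⟶ X} (φ : Scheme.pointSmallEtale η' ⟶ Scheme.pointSmallEtale η) :
    IsIso ((GrothendieckTopology.Point.Hom.sheafFiber (A := ModuleCat.{u + 1} Λ) φ).app F) := by
  obtain ⟨ι, U, hU, hF⟩ := hF
  obtain ⟨i, p, hp⟩ := hU (η.base (default : Spec (CommRingCat.of k)))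
  obtain ⟨M, iM, iM', fM, ⟨e⟩⟩ := hF i
  obtain ⟨σ, hσ⟩ := exists_constBy e
  obtain ⟨z, -⟩ := Scheme.pointSmallEtaleFiberObjToPreimage_surjective η rfl (U i) ⟨p, hp⟩
  let χ := (GrothendieckTopology.Point.Hom.sheafFiber (A := ModuleCat.{u + 1} Λ) φ).app F
  have h : σ ≫ (Scheme.pointSmallEtale η').toPresheafFiber (U i) (φ.hom.app (U i) z) F.obj =
      (σ ≫ (Scheme.pointSmallEtale η).toPresheafFiber (U i) z F.obj) ≫ χ :=
    ((Category.assoc _ _ _).trans (congrArg (σ ≫ ·) (pointHom_germ (ModuleCat.{u + 1} Λ) φ F.obj (U i) z))).symm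
  have h1 : IsIso (σ ≫ (Scheme.pointSmallEtale η).toPresheafFiber (U i) z F.obj) :=
    (ConcreteCategory.isIso_iff_bijective _).2 (hσ k η z)
  have h2 : IsIso (σ ≫ (Scheme.pointSmallEtale η').toPresheafFiber (U i) (φ.hom.app (U i) z) F.obj) :=
    (ConcreteCategory.isIso_iff_bijective _).2 (hσ k' η' _)
  rw [h] at h2
  exact @IsIso.of_isIso_comp_left _ _ _ _ _ (σ ≫ (Scheme.pointSmallEtale η).toPresheafFiber (U i) z F.obj) χ h1 h2

variable (Λ) in
/-- stalk functors at geometric points over the same point are isomorphic -/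
theorem nonempty_stalk_natIso {k k' : Type u} [Field k] [IsSepClosed k] [Field k'] [IsSepClosed k']
    (ζ : Spec (CommRingCat.of k) ⟶ X) (ξ : Spec (CommRingCat.of k') ⟶ X)
    (h : ζ.base (default : Spec (CommRingCat.of k)) = ξ.base (default : Spec (CommRingCat.of k'))) :
    Nonempty (EtModW.stalk Λ ζ ≅ EtModW.stalk Λ ξ) := by
  obtain ⟨L, _, _, z, e, he⟩ := exists_lift_extension ξ ζ ⟨default, h.symm⟩
  exact ⟨stalkExtIso (ModuleCat.{u + 1} Λ) ζ e ≪≫
    eqToIso (congrArg (fun q => EtModW.stalk Λ q) he) ≪≫ (stalkExtIso (ModuleCat.{u + 1} Λ) ξ z).symm⟩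

/-- sets stable under generisation and specialisation of a noetherian sober space are open and closed -/
theorem isClopen_of_stable {T : Type*} [TopologicalSpace T] [TopologicalSpace.NoetherianSpace T] [QuasiSober T]
    {S : Set T} (hS : ∀ x y : T, x ⤳ y → (x ∈ S ↔ y ∈ S)) : IsClopen S := by
  suffices key : ∀ R : Set T, (∀ x y : T, x ⤳ y → (x ∈ R ↔ y ∈ R)) → IsClosed R from
    ⟨key S hS, isClosed_compl_iff.1 (key Sᶜ fun x y h => not_congr (hS x y h))⟩
  intro R hR
  have h : R = ⋃ C ∈ {C ∈ irreducibleComponents T | (C ∩ R).Nonempty}, C := by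
    refine Set.Subset.antisymm (fun x hx => ?_) (Set.iUnion₂_subset fun C ⟨hC, y, hy, hyR⟩ z hz => ?_)
    · exact Set.mem_iUnion₂.2 ⟨irreducibleComponent x,
        ⟨irreducibleComponent_mem_irreducibleComponents x, x, mem_irreducibleComponent, hx⟩, mem_irreducibleComponent⟩
    · have hg := hC.1.isGenericPoint_genericPoint_closure
      rw [(isClosed_of_mem_irreducibleComponents C hC).closure_eq] at hg
      exact (hR _ _ (hg.specializes hz)).1 ((hR _ _ (hg.specializes hy)).2 hyR)
  rw [h]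
  exact (TopologicalSpace.NoetherianSpace.finite_irreducibleComponents.subset fun C hC => hC.1).isClosed_biUnion
    fun C hC => isClosed_of_mem_irreducibleComponents C hC.1

/-- stalk systems of locally constant systems only depend on the connected component -/
theorem nonempty_iso_stalkSystems [IsNoetherian X] [ConnectedSpace X] {J : Type*} [Category J]
    (F : J ⥤ EtModW.Mod Λ X) (hF : ∀ j, EtModW.IsFTLocConst Λ (F.obj j))
    {k k' : Type u} [Field k] [IsSepClosed k] [Field k'] [IsSepClosed k']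
    (s : Spec (CommRingCat.of k) ⟶ X) (s' : Spec (CommRingCat.of k') ⟶ X) :
    Nonempty ((F ⋙ EtModW.stalk Λ s) ≅ (F ⋙ EtModW.stalk Λ s')) := by
  let S : Set X := {x | ∀ (K : Type u) [Field K] [IsSepClosed K] (t : Spec (CommRingCat.of K) ⟶ X),
    t.base (default : Spec (CommRingCat.of K)) = x → Nonempty ((F ⋙ EtModW.stalk Λ s) ≅ (F ⋙ EtModW.stalk Λ t))}
  have hmem : ∀ {x : X} {K : Type u} [Field K] [IsSepClosed K] (t : Spec (CommRingCat.of K) ⟶ X),
      t.base (default : Spec (CommRingCat.of K)) = x →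
        Nonempty ((F ⋙ EtModW.stalk Λ s) ≅ (F ⋙ EtModW.stalk Λ t)) → x ∈ S := fun t ht ⟨e⟩ K' _ _ t' ht' =>
    (nonempty_stalk_natIso Λ t t' (ht.trans ht'.symm)).map fun a => e ≪≫ Functor.isoWhiskerLeft F a
  have hstable : ∀ x y : X, x ⤳ y → (x ∈ S ↔ y ∈ S) := by
    intro x y hxy
    obtain ⟨a, _, _, tx, rfl⟩ := exists_geomPoint x
    obtain ⟨b, _, _, ty, rfl⟩ := exists_geomPoint y
    let zx : (Scheme.pointSmallEtale tx).fiber.obj (EtCoh.top X) := CategoryTheory.Over.homMk tx (Category.comp_id _)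
    let zy : (Scheme.pointSmallEtale ty).fiber.obj (EtCoh.top X) := CategoryTheory.Over.homMk ty (Category.comp_id _)
    obtain ⟨φ, -⟩ := exists_pointHom ty tx zy zx hxy
    let η : (F ⋙ EtModW.stalk Λ ty) ⟶ (F ⋙ EtModW.stalk Λ tx) :=
      Functor.whiskerLeft F (GrothendieckTopology.Point.Hom.sheafFiber (A := ModuleCat.{u + 1} Λ) φ)
    have : ∀ j, IsIso (η.app j) := fun j => isIso_sheafFiber_of_isFTLocConst (hF j) φ
    have : IsIso η := NatIso.isIso_of_isIso_app η
    constructor <;> intro h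
    · exact hmem ty rfl ((h _ tx rfl).map fun e => e ≪≫ (asIso η).symm)
    · exact hmem tx rfl ((h _ ty rfl).map fun e => e ≪≫ asIso η)
  have hs : s.base (default : Spec (CommRingCat.of k)) ∈ S := hmem s rfl ⟨Iso.refl _⟩
  exact ((isClopen_of_stable hstable).eq_univ ⟨_, hs⟩).ge (Set.mem_univ _) _ s' rfl

end Groth.Agent.ModWLib
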