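import Groth.Agent.ModWLib.AdicAlg
import Groth.Agent.ModWLib.ConstrSerre
import Groth.Agent.ModWLib.TensorConstr

/-! adic systems of constructible sheaves are simultaneously locally constant near maximal points -/

set_option autoImplicit false
set_option linter.style.haveILetI false
set_option linter.unusedSectionVars false

universe u

open CategoryTheory CategoryTheory.Limits AlgebraicGeometry Opposite Topology TopologicalSpace Groth.Agent.EtFound

namespace Groth.Agent.ModWLib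

set_option backward.isDefEq.respectTransparency.types false

variable {Λ : Type (u + 1)} [CommRing Λ] {X : Scheme.{u}}

/-- bijectivity of the germs of a family at a point -/
abbrev Bij {F : EtModW.Mod Λ X} {U : X.Etale} {M : ModuleCat.{u + 1} Λ} (φ : M ⟶ F.obj.obj (op U))
    {Ω : Type u} [Field Ω] [IsSepClosed Ω] {ξ : Spec (CommRingCat.of Ω) ⟶ X}
    (z : (Scheme.pointSmallEtale ξ).fiber.obj U) : Prop :=
  Function.Bijective (φ ≫ (Scheme.pointSmallEtale ξ).toPresheafFiber U z F.obj)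

/-- the stalk map of a morphism of points -/
noncomputable abbrev spMap {k k' : Type u} [Field k] [IsSepClosed k] [Field k'] [IsSepClosed k']
    {η : Spec (CommRingCat.of k) ⟶ X} {η' : Spec (CommRingCat.of k') ⟶ X}
    (χ : Scheme.pointSmallEtale η' ⟶ Scheme.pointSmallEtale η) : EtModW.stalk Λ η ⟶ EtModW.stalk Λ η' :=
  GrothendieckTopology.Point.Hom.sheafFiber (A := ModuleCat.{u + 1} Λ) χ

theorem germ_spMap {k k' : Type u} [Field k] [IsSepClosed k] [Field k'] [IsSepClosed k']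
    {η : Spec (CommRingCat.of k) ⟶ X} {η' : Spec (CommRingCat.of k') ⟶ X}
    (χ : Scheme.pointSmallEtale η' ⟶ Scheme.pointSmallEtale η) (F : EtModW.Mod Λ X) {U : X.Etale}
    (z : (Scheme.pointSmallEtale η).fiber.obj U) :
    (Scheme.pointSmallEtale η).toPresheafFiber U z F.obj ≫ (spMap χ).app F =
      (Scheme.pointSmallEtale η').toPresheafFiber U (χ.hom.app U z) F.obj :=
  pointHom_germ (ModuleCat.{u + 1} Λ) χ F.obj U z

theorem bij_iff_of_bijective {k k' : Type u} [Field k] [IsSepClosed k] [Field k'] [IsSepClosed k']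
    {η : Spec (CommRingCat.of k) ⟶ X} {η' : Spec (CommRingCat.of k') ⟶ X}
    (χ : Scheme.pointSmallEtale η' ⟶ Scheme.pointSmallEtale η) {F : EtModW.Mod Λ X} {U : X.Etale}
    {M : ModuleCat.{u + 1} Λ} (φ : M ⟶ F.obj.obj (op U)) (h : Function.Bijective ((spMap χ).app F))
    (z : (Scheme.pointSmallEtale η).fiber.obj U) : Bij φ (χ.hom.app U z) ↔ Bij φ z := by
  refine Iff.trans (iff_of_eq (congrArg Function.Bijective (funext fun m => ?_))) (Function.Bijective.of_comp_iff' h _)
  rw [← germ_spMap χ F z]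
  rfl

/-- bijectivity of germs only depends on the point -/
theorem bij_congr {F : EtModW.Mod Λ X} {U : X.Etale} {M : ModuleCat.{u + 1} Λ} (φ : M ⟶ F.obj.obj (op U))
    {k k' : Type u} [Field k] [IsSepClosed k] [Field k'] [IsSepClosed k']
    {η : Spec (CommRingCat.of k) ⟶ X} {η' : Spec (CommRingCat.of k') ⟶ X}
    (z : (Scheme.pointSmallEtale η).fiber.obj U) (z' : (Scheme.pointSmallEtale η').fiber.obj U)
    (h : ptOf z = ptOf z') (hz : Bij φ z) : Bij φ z' := by
  let zl : Spec (CommRingCat.of k) ⟶ U.left := z.left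
  let zl' : Spec (CommRingCat.of k') ⟶ U.left := z'.left
  obtain ⟨Ω, _, _, a, e, he⟩ := exists_lift_extension zl zl' ⟨default, h⟩
  have hη : e ≫ η' = a ≫ η := by
    have h1 : zl ≫ U.hom = η := CategoryTheory.Over.w z
    have h2 : zl' ≫ U.hom = η' := CategoryTheory.Over.w z'
    rw [← h2, ← h1, ← Category.assoc, he, Category.assoc]
  have hb : ∀ {K : Type u} [Field K] [IsSepClosed K] {θ : Spec (CommRingCat.of K) ⟶ X}
      (l : Spec (CommRingCat.of Ω) ⟶ Spec (CommRingCat.of K)),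
      Function.Bijective ((spMap (Λ := Λ) (pointExtIso θ l).hom).app F) := fun {K} _ _ {θ} l =>
    (ConcreteCategory.isIso_iff_bijective _).1
      (inferInstanceAs (IsIso (((stalkExtIso (ModuleCat.{u + 1} Λ) θ l).app F).hom)))
  have h1 := (bij_iff_of_bijective (pointExtIso η a).hom φ (hb a) z).2 hz
  refine (bij_iff_of_bijective (pointExtIso η' e).hom φ (hb e) z').1 ?_
  let w : (Scheme.pointSmallEtale (a ≫ η)).fiber.obj U := (pointExtIso η a).hom.hom.app U z
  have key : ∀ {ζ : Spec (CommRingCat.of Ω) ⟶ X} (_ : ζ = a ≫ η) (w' : (Scheme.pointSmallEtale ζ).fiber.obj U),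
      (w'.left : Spec (CommRingCat.of Ω) ⟶ U.left) = a ≫ zl → Bij φ w' := by
    rintro ζ rfl w' hw'
    rwa [show w' = w from CategoryTheory.Over.OverMorphism.ext hw']
  exact key hη _ he

/-- near a point of a stratum containing a neighbourhood the sheaf is constant by a family of sections -/
theorem exists_constBy_of_stratum [IsNoetherianRing Λ] {F : EtModW.Mod Λ X} {T : Scheme.{u}} (g : T ⟶ X)
    [IsImmersion g] (hT : EtModW.IsFTLocConst Λ ((EtModW.pull Λ g).obj F)) {O : X.Opens} {x : X} (hx : x ∈ O)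
    (hO : (O : Set X) ⊆ Set.range g.base) :
    ∃ (U : X.Etale) (p : U.left) (M : ModuleCat.{u + 1} Λ) (_ : Module.Finite Λ M) (φ : M ⟶ F.obj.obj (op U)),
      U.hom.base p = x ∧ ConstBy F φ := by
  obtain ⟨t, ht⟩ := hO hx
  obtain ⟨k, _, _, θ, hθ⟩ := exists_geomPoint t
  have hξ : (θ ≫ g).base (default : Spec (CommRingCat.of k)) = x :=
    (Scheme.Hom.comp_apply _ _ _).trans ((congrArg g.base hθ).trans ht)
  haveI hfin : Module.Finite Λ ((EtModW.stalk Λ (θ ≫ g)).obj F) := by
    haveI : Module.Finite Λ ↑(((EtModW.pull Λ g) ⋙ EtModW.stalk Λ θ).obj F) := finite_stalk_of_isFTLocConst θ hT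
    exact Module.Finite.equiv ((sheafFiberPullIso g θ).app F).toLinearEquiv
  obtain ⟨U, u, φ, hφ⟩ := exists_family (F := F) (ξ := θ ≫ g) hfin
  let v₀ := (bcFiberEquiv g θ U).symm u
  have hv₀ : bcFiberEquiv g θ U ((Scheme.pointSmallEtale θ).fiber.map (𝟙 _) v₀) = u := by
    rw [CategoryTheory.Functor.map_id_apply]
    exact (bcFiberEquiv g θ U).apply_symm_apply u
  obtain ⟨W, s, w, hw, hW⟩ := exists_constBy_pulled hT (𝟙 _) φ v₀ (hv₀.symm ▸ hφ)
  let fst : pullback U.hom g ⟶ U.left := pullback.fst U.hom g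
  let sl : W.left ⟶ pullback U.hom g := s.left
  haveI : AlgebraicGeometry.Etale sl := etale_left s
  haveI : IsImmersion fst := MorphismProperty.pullback_fst _ _ (inferInstanceAs (IsImmersion g))
  obtain ⟨O₁, hO₁, hO₁s⟩ := fst.isEmbedding.isInducing.isOpen_iff.1 sl.isOpenMap.isOpen_range
  let O₂ : U.left.Opens := ⟨O₁, hO₁⟩ ⊓ U.hom ⁻¹ᵁ O
  have hbc : ∀ {K : Type u} [Field K] [IsSepClosed K] {ζ : Spec (CommRingCat.of K) ⟶ T}
      (z : (Scheme.pointSmallEtale ζ).fiber.obj ((EtCoh.bc g).obj U)),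
      ptOf (bcFiberEquiv g ζ U z) = fst.base (ptOf z) := fun z => Scheme.Hom.comp_apply _ _ _
  have hp : ptOf u ∈ O₂ := by
    refine ⟨?_, show U.hom.base (ptOf u) ∈ O from ((hom_ptOf u).trans hξ).symm ▸ hx⟩
    rw [← hv₀, CategoryTheory.Functor.map_id_apply, hbc]
    show ptOf v₀ ∈ fst.base ⁻¹' O₁
    rw [hO₁s, ← hw]
    exact ⟨ptOf w, (ptOf_map s w).symm⟩
  have : AlgebraicGeometry.Etale U.hom := U.prop
  let U' : X.Etale := Scheme.Etale.mk (O₂.ι ≫ U.hom)
  let r : U' ⟶ U := MorphismProperty.Over.homMk O₂.ι rfl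
  refine ⟨U', (⟨ptOf u, hp⟩ : O₂.toScheme), (EtModW.stalk Λ (θ ≫ g)).obj F, hfin, φ ≫ F.obj.map r.op,
    (Scheme.Hom.comp_apply _ _ _).trans ((hom_ptOf u).trans hξ), fun K _ _ ζ z => ?_⟩
  suffices h : Bij φ ((Scheme.pointSmallEtale ζ).fiber.map r z) by
    rwa [Category.assoc, GrothendieckTopology.Point.toPresheafFiber_w]
  let zU := (Scheme.pointSmallEtale ζ).fiber.map r z
  have hzU : ptOf zU ∈ O₂ := (ptOf_map r z).symm ▸ (ptOf z).2
  obtain ⟨t', ht'⟩ := hO hzU.2
  obtain ⟨y, hy, -⟩ := Scheme.Pullback.exists_preimage_pullback (f := U.hom) (g := g) (ptOf zU) t' ht'.symm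
  obtain ⟨w', hw'⟩ : y ∈ Set.range sl.base := hO₁s.le (show fst.base y ∈ O₁ from hy.symm ▸ hzU.1)
  obtain ⟨L, _, _, θ', z'', hz''⟩ := exists_algClosed_point W w'
  have h1 := (bijective_pulled_iff F (s ≫ 𝟙 _) φ θ' z'').1 (hW L θ' z'')
  refine bij_congr φ _ zU ?_ h1
  rw [Functor.map_comp_apply, CategoryTheory.Functor.map_id_apply, hbc, ptOf_map]
  exact (congrArg (fun q => fst.base (sl.base q)) hz'').trans ((congrArg fst.base hw').trans hy)

/-- a constructible sheaf is constant by a family of sections near a maximal point -/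
theorem exists_constBy_of_isConstructible [IsNoetherianRing Λ] [IsLocallyNoetherian X] {F : EtModW.Mod Λ X}
    (hF : EtModW.IsConstructible Λ F) {x : X} (hmax : ∀ g : X, g ⤳ x → g = x) :
    ∃ (U : X.Etale) (p : U.left) (M : ModuleCat.{u + 1} Λ) (_ : Module.Finite Λ M) (φ : M ⟶ F.obj.obj (op U)),
      U.hom.base p = x ∧ ConstBy F φ := by
  obtain ⟨A, hA, hxA, -⟩ := exists_isAffineOpen_mem_and_subset (U := (⊤ : X.Opens)) (x := x) trivial
  obtain ⟨n, T, g, hg, -, -, hu, hT⟩ := hF A hA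
  obtain ⟨i, hi⟩ := Set.mem_iUnion.1 (hu.ge hxA)
  haveI := hg i
  obtain ⟨O, Z, hO, hZ, hr⟩ := (g i).isLocallyClosed_range
  obtain ⟨W, hxW, hW⟩ := exists_open_components (X := X) (C := Set.univ) isClosed_univ x
  refine exists_constBy_of_stratum (g i) (hT i) (O := W ⊓ ⟨O, hO⟩) ⟨hxW, (hr.le hi).1⟩ fun q hq => hr.ge ⟨hq.2, ?_⟩
  obtain ⟨y, -, hyx, hyq⟩ := hW q hq.1 trivial
  obtain rfl := hmax y hyx
  exact hyq.mem_closed hZ (hr.le hi).2

set_option maxHeartbeats 4000000 in
/-- an adic system of constructible sheaves is constant by families of sections near a maximal point -/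
theorem exists_open_constBy_of_isAdic [IsNoetherianRing Λ] [IsLocallyNoetherian X] {I : Ideal Λ}
    {F : ARSys.PS (EtModW.Mod Λ X)} (hF : ARSys.IsAdic I F) (hc : ∀ n : ℕ, EtModW.IsConstructible Λ (F.obj (op n)))
    {x : X} (hmax : ∀ g : X, g ⤳ x → g = x) :
    ∃ O : X.Opens, x ∈ O ∧ ∀ (n : ℕ) (y : X), y ∈ O → ∃ (U : X.Etale) (p : U.left) (M : ModuleCat.{u + 1} Λ)
      (_ : Module.Finite Λ M) (φ : M ⟶ (F.obj (op n)).obj.obj (op U)), U.hom.base p = y ∧ ConstBy (F.obj (op n)) φ := by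
  obtain ⟨U, p, M, hM, φ, hp, hφ⟩ := exists_constBy_of_isConstructible (hc 0) hmax
  obtain ⟨L, _, _, ξ, u, hu⟩ := exists_algClosed_point U p
  have hξ : ξ.base (default : Spec (CommRingCat.of L)) = x := (base_of_point u).symm.trans ((congrArg _ hu).trans hp)
  obtain ⟨r, s, hs⟩ := Module.Finite.exists_fin' Λ M
  obtain ⟨m, a, hma⟩ := Submodule.fg_iff_exists_fin_generating_family.1 (IsNoetherian.noetherian I)
  have hI : I = Ideal.span (Set.range a) := hma.symm
  have ha : ∀ i, a i ∈ I := fun i => hI ▸ Ideal.subset_span ⟨i, rfl⟩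
  have hadic : ∀ (k : Type u) [Field k] [IsSepClosed k] (η : Spec (CommRingCat.of k) ⟶ X),
      ARSys.IsAdic I (F ⋙ EtModW.stalk Λ η) := fun k _ _ η =>
    isAdic_map (Scheme.pointSmallEtale η).skyscraperSheafAdjunction hF
  let eU : Fin r → (F.obj (op 0)).obj.obj (op U) := fun j => φ (s (Pi.single j 1))
  let e0 : Fin r → (F ⋙ EtModW.stalk Λ ξ).obj (op 0) := fun j => germL (F.obj (op 0)) u (eU j)
  -- finitely many generating relations
  obtain ⟨t, P, hP⟩ := Submodule.fg_iff_exists_fin_generating_family.1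
    (IsNoetherian.noetherian (relMod (hadic L ξ) ha e0))
  obtain ⟨D, hD⟩ := Set.Finite.bddAbove
    (Set.finite_range fun tj : Fin t × Fin r => (P tj.1 tj.2).totalDegree)
  choose lD hlD using fun j => trL_surjective (hadic L ξ) (Nat.zero_le D) (e0 j)
  obtain ⟨V₁, g₁, v₁, l₁, hv₁, hl₁⟩ := exists_reps u lD
  obtain ⟨V₂, g₂, v₂, hv₂, hg₂⟩ := exists_forall_eq (F.obj (op 0)).obj v₁
    (fun j : Fin r => (ARSys.tr F (Nat.zero_le D)).hom.app (op V₁) (l₁ j))
    (fun j => (F.obj (op 0)).obj.map g₁.op (eU j)) (fun j => by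
      refine (germL_naturality (ARSys.tr F (Nat.zero_le D)) v₁ (l₁ j)).symm.trans ((congrArg _ (hl₁ j)).trans ?_)
      refine (hlD j).trans ?_
      refine Eq.trans ?_ (germL_map (F.obj (op 0)) g₁ v₁ _).symm
      rw [hv₁])
  let l₂ : Fin r → (F.obj (op D)).obj.obj (op V₂) := fun j => (F.obj (op D)).obj.map g₂.op (l₁ j)
  have hl₂ : ∀ j, germL (F.obj (op D)) v₂ (l₂ j) = lD j := fun j => by
    rw [germL_map, hv₂]; exact hl₁ j
  let sec : ∀ q : Fin (D + 1), Fin t → (F.obj (op q.1)).obj.obj (op V₂) := fun q i =>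
    ∑ j, MvPolynomial.eval a (MvPolynomial.homogeneousComponent q.1 (P i j)) •
      (ARSys.tr F (Nat.le_of_lt_succ q.2)).hom.app (op V₂) (l₂ j)
  have hsec0 : ∀ (q : Fin (D + 1)) (i : Fin t), germL (F.obj (op q.1)) v₂ (sec q i) = 0 := fun q i => by
    have hmem : P i ∈ relMod (hadic L ξ) ha e0 := hP ▸ Submodule.subset_span ⟨i, rfl⟩
    simp only [sec, map_sum, map_smul]
    refine hmem q.1 _ fun j => ?_
    rw [← germL_naturality, hl₂]
    exact (trL_trL (F ⋙ EtModW.stalk Λ ξ) (Nat.zero_le _) (Nat.le_of_lt_succ q.2) (lD j)).trans (hlD j)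
  -- shrink so that the relations vanish
  have hzero : ∀ qs : Finset (Fin (D + 1)), ∃ (V : X.Etale) (g : V ⟶ V₂) (v : (Scheme.pointSmallEtale ξ).fiber.obj V),
      (Scheme.pointSmallEtale ξ).fiber.map g v = v₂ ∧ ∀ q ∈ qs, ∀ i, (F.obj (op q.1)).obj.map g.op (sec q i) = 0 := by
    intro qs
    induction qs using Finset.induction with
    | empty => exact ⟨V₂, 𝟙 _, v₂, by simp, fun q hq => absurd hq (Finset.notMem_empty q)⟩
    | @insert q qs _ ih =>
      obtain ⟨V, g, v, hv, hz⟩ := ih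
      obtain ⟨V', g', v', hv', hz'⟩ := exists_forall_eq (F.obj (op q.1)).obj v
        (fun i : Fin t => (F.obj (op q.1)).obj.map g.op (sec q i)) (fun _ => 0) (fun i => by
          refine (germL_map (F.obj (op q.1)) g v (sec q i)).trans ?_
          rw [hv, hsec0]
          exact (map_zero _).symm)
      refine ⟨V', g' ≫ g, v', by rw [Functor.map_comp_apply, hv', hv], fun q' hq' i => ?_⟩
      rw [op_comp, Functor.map_comp_apply]
      rcases Finset.mem_insert.1 hq' with rfl | hq''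
      · exact (hz' i).trans (map_zero _)
      · rw [hz q' hq'' i, map_zero]
  obtain ⟨V, g₃, v, hv₃, hz⟩ := hzero Finset.univ
  let g : V ⟶ U := g₃ ≫ g₂ ≫ g₁
  have hgv : (Scheme.pointSmallEtale ξ).fiber.map g v = u := by
    rw [Functor.map_comp_apply, Functor.map_comp_apply, hv₃, hv₂, hv₁]
  have hφV := hφ.restrict g
  have : AlgebraicGeometry.Etale V.hom := V.prop
  haveI : IsLocallyNoetherian V.left := by
    let h : V.left ⟶ X := V.hom
    have : AlgebraicGeometry.Etale h := V.prop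
    exact LocallyOfFiniteType.isLocallyNoetherian h
  obtain ⟨W, hpW, hW⟩ := exists_open_components (X := V.left) (C := Set.univ) isClosed_univ (ptOf v)
  have hspec : ∀ q ∈ W, ptOf v ⤳ q := fun q hq => by
    obtain ⟨y, -, hyp, hyq⟩ := hW q hq trivial
    have hy : y = ptOf v := eq_of_specializes V hyp
      ((hmax _ ((hyp.map V.hom.continuous).trans (specializes_of_eq ((hom_ptOf v).trans hξ)))).trans
        ((hom_ptOf v).trans hξ).symm)
    exact hy ▸ hyq
  -- specialisation from the generic point is bijective in every degree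
  have step : ∀ {k : Type u} [Field k] [IsAlgClosed k] {η : Spec (CommRingCat.of k) ⟶ X}
      (z : (Scheme.pointSmallEtale η).fiber.obj V), ptOf z ∈ W →
      ∀ (χ : Scheme.pointSmallEtale ξ ⟶ Scheme.pointSmallEtale η), χ.hom.app V z = v →
        ∀ n, Function.Bijective ((spMap χ).app (F.obj (op n))) := by
    intro k _ _ η z _ χ hχ
    let S : (F ⋙ EtModW.stalk Λ η) ⟶ (F ⋙ EtModW.stalk Λ ξ) := Functor.whiskerLeft F (spMap χ)
    have h0 : Function.Bijective (S.app (op 0)) := by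
      refine (Function.Bijective.of_comp_iff _ (hφV k η z)).1 ?_
      refine Eq.mp (congrArg Function.Bijective (funext fun c => ?_)) (hφV L ξ v)
      rw [← hχ, ← germ_spMap χ (F.obj (op 0)) z]
      rfl
    let e : Fin r → (F ⋙ EtModW.stalk Λ η).obj (op 0) := fun j =>
      germL (F.obj (op 0)) z ((F.obj (op 0)).obj.map g.op (eU j))
    have he : Submodule.span Λ (Set.range e) = ⊤ := by
      let Γ : (Fin r → Λ) →ₗ[Λ] (EtModW.stalk Λ η).obj (F.obj (op 0)) :=
        ((φ ≫ (F.obj (op 0)).obj.map g.op) ≫ (Scheme.pointSmallEtale η).toPresheafFiber V z (F.obj (op 0)).obj).hom.comp s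
      have hΓ : Function.Surjective Γ := (hφV k η z).2.comp hs
      refine top_le_iff.1 fun y _ => ?_
      obtain ⟨c, rfl⟩ := hΓ y
      rw [show Γ = Fintype.linearCombination Λ e from LinearMap.pi_ext' fun j => LinearMap.ext_ring (by
        show Γ (Pi.single j 1) = Fintype.linearCombination Λ e (Pi.single j 1)
        rw [Fintype.linearCombination_apply_single, one_smul]
        rfl), Fintype.linearCombination_apply]
      exact Submodule.sum_mem _ fun j _ => Submodule.smul_mem _ _ (Submodule.subset_span ⟨j, rfl⟩)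
    have hSe : ∀ j, S.app (op 0) (e j) = e0 j := fun j => by
      refine (ConcreteCategory.congr_hom (germ_spMap χ (F.obj (op 0)) z) _).trans ?_
      rw [hχ]
      refine (germL_map (F.obj (op 0)) g v (eU j)).trans ?_
      rw [hgv]
    have hrel : relMod (hadic L ξ) ha (fun j => S.app (op 0) (e j)) ≤ relMod (hadic k η) ha e := by
      rw [show (fun j => S.app (op 0) (e j)) = e0 from funext hSe, ← hP, Submodule.span_le]
      rintro _ ⟨i, rfl⟩ q l hl
      by_cases hq : q < D + 1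
      · let l' : Fin r → (F ⋙ EtModW.stalk Λ η).obj (op q) := fun j =>
          germL (F.obj (op q)) z ((F.obj (op q)).obj.map g₃.op ((ARSys.tr F (Nat.le_of_lt_succ hq)).hom.app (op V₂) (l₂ j)))
        rw [evalAt_congr (hadic k η) ha (l' := l') (fun j => by
          rw [hl]
          symm
          show (EtModW.stalk Λ η).map (ARSys.tr F (Nat.zero_le q)) (l' j) = e j
          rw [germL_naturality, NatTrans.naturality_apply, germL_map, ← ConcreteCategory.comp_apply,
            ← NatTrans.comp_app, ← ObjectProperty.FullSubcategory.comp_hom, ARLib.tr_tr]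
          show germL _ _ ((ARSys.tr F (Nat.zero_le D)).hom.app (op V₂) (l₂ j)) = _
          simp only [l₂]
          rw [NatTrans.naturality_apply, hg₂ j, germL_map, germL_map, ← Functor.map_comp_apply,
            ← Functor.map_comp_apply, ← germL_map]) (P i)]
        have h := congrArg (germL (F.obj (op q)) z) (hz ⟨q, hq⟩ (Finset.mem_univ _) i)
        rw [map_zero] at h
        refine Eq.trans ?_ h
        simp only [sec, map_sum, map_smul]
        rfl
      · refine Finset.sum_eq_zero fun j _ => ?_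
        have : (P i j).totalDegree ≤ D := hD ⟨(i, j), rfl⟩
        rw [MvPolynomial.homogeneousComponent_eq_zero q (P i j) (by omega), map_zero, zero_smul]
    exact fun n => ⟨injective_of_relMod (hadic k η) (hadic L ξ) ha hI S h0.1 e he hrel n,
      surjective_of_zero (hadic k η) (hadic L ξ) S h0.2 n⟩
  refine ⟨⟨V.hom.base '' (W : Set V.left), V.hom.isOpenMap (W : Set V.left) W.2⟩,
    ⟨ptOf v, hpW, (hom_ptOf v).trans hξ⟩, fun n y ⟨q, hqW, hq⟩ => ?_⟩
  obtain ⟨k, _, _, η, z₀, hz₀⟩ := exists_algClosed_point V q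
  have hη : η.base (default : Spec (CommRingCat.of k)) = y := (base_of_point z₀).symm.trans ((congrArg _ hz₀).trans hq)
  obtain ⟨U₁, u₁, ψ₁, hψ₁⟩ := exists_family (finite_stalk_of_isConstructible η (hc n))
  obtain ⟨⟨V₄, w₀⟩, ⟨b₀, hb₀⟩, ⟨c₀, hc₀⟩, -⟩ := IsCofilteredOrEmpty.cone_objs
    ((Scheme.pointSmallEtale η).fiber.elementsMk V z₀) ((Scheme.pointSmallEtale η).fiber.elementsMk U₁ u₁)
  obtain ⟨b, hb⟩ : ∃ b : V₄ ⟶ V, (Scheme.pointSmallEtale η).fiber.map b w₀ = z₀ := ⟨b₀, hb₀⟩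
  obtain ⟨c, hc₁⟩ : ∃ c : V₄ ⟶ U₁, (Scheme.pointSmallEtale η).fiber.map c w₀ = u₁ := ⟨c₀, hc₀⟩
  let ψ := ψ₁ ≫ (F.obj (op n)).obj.map c.op
  have hψ₀ : Bij ψ w₀ := by
    show Function.Bijective _
    rwa [Category.assoc, GrothendieckTopology.Point.toPresheafFiber_w, hc₁]
  have : AlgebraicGeometry.Etale V₄.hom := V₄.prop
  haveI : IsLocallyNoetherian V₄.left := by
    let h : V₄.left ⟶ X := V₄.hom
    have : AlgebraicGeometry.Etale h := V₄.prop
    exact LocallyOfFiniteType.isLocallyNoetherian h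
  obtain ⟨W₁, hpW₁, hW₁⟩ := exists_open_components (X := V₄.left) (C := Set.univ) isClosed_univ (ptOf w₀)
  let W₂ : V₄.left.Opens := W₁ ⊓ b.left ⁻¹ᵁ W
  have hp₂ : ptOf w₀ ∈ W₂ := ⟨hpW₁, show b.left.base (ptOf w₀) ∈ W by rw [← ptOf_map, hb]; exact (show ptOf z₀ = q from hz₀).symm ▸ hqW⟩
  -- morphisms of points over `W` act bijectively
  have hbij : ∀ {k₁ k₂ : Type u} [Field k₁] [IsAlgClosed k₁] [Field k₂] [IsAlgClosed k₂]
      {η₁ : Spec (CommRingCat.of k₁) ⟶ X} {η₂ : Spec (CommRingCat.of k₂) ⟶ X}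
      (χ : Scheme.pointSmallEtale η₂ ⟶ Scheme.pointSmallEtale η₁) (z : (Scheme.pointSmallEtale η₁).fiber.obj V),
      ptOf z ∈ W → Function.Bijective ((spMap χ).app (F.obj (op n))) := by
    intro k₁ k₂ _ _ _ _ η₁ η₂ χ z hzW
    have hzW' : ptOf (χ.hom.app V z) ∈ W := (ptOf_specializes χ z).mem_open W.2 hzW
    obtain ⟨ρ, hρ⟩ := exists_pointHom η₂ ξ (χ.hom.app V z) v (hspec _ hzW')
    have h1 := step (χ.hom.app V z) hzW' ρ hρ n
    have h2 := step z hzW (ρ ≫ χ) hρ n
    rw [spMap, GrothendieckTopology.Point.Hom.sheafFiber_comp] at h2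
    exact (Function.Bijective.of_comp_iff' h1 _).1 h2
  have hall : ∀ (K : Type u) [Field K] [IsAlgClosed K] (ζ : Spec (CommRingCat.of K) ⟶ X)
      (z : (Scheme.pointSmallEtale ζ).fiber.obj V₄), ptOf z ∈ W₂ → Bij ψ z := by
    intro K _ _ ζ z hz
    obtain ⟨y', -, hy₀, hy'⟩ := hW₁ _ hz.1 trivial
    obtain ⟨K', _, _, θ, zg, hzg⟩ := exists_algClosed_point V₄ y'
    obtain ⟨χ₁, hχ₁⟩ := exists_pointHom η θ w₀ zg ((specializes_of_eq hzg).trans hy₀)
    obtain ⟨χ₂, hχ₂⟩ := exists_pointHom ζ θ z zg ((specializes_of_eq hzg).trans hy')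
    have e1 := hbij χ₁ z₀ ((show ptOf z₀ = q from hz₀).symm ▸ hqW)
    have e2 := hbij χ₂ ((Scheme.pointSmallEtale ζ).fiber.map b z) (by rw [ptOf_map]; exact hz.2)
    have h1 := (bij_iff_of_bijective χ₁ ψ e1 w₀).2 hψ₀
    rw [hχ₁] at h1
    refine (bij_iff_of_bijective χ₂ ψ e2 z).1 ?_
    rw [hχ₂]
    exact h1
  let U' : X.Etale := Scheme.Etale.mk (W₂.ι ≫ V₄.hom)
  let r' : U' ⟶ V₄ := MorphismProperty.Over.homMk W₂.ι rfl
  refine ⟨U', (⟨ptOf w₀, hp₂⟩ : W₂.toScheme), (EtModW.stalk Λ η).obj (F.obj (op n)),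
    finite_stalk_of_isConstructible η (hc n), ψ ≫ (F.obj (op n)).obj.map r'.op,
    (Scheme.Hom.comp_apply _ _ _).trans ((hom_ptOf w₀).trans hη), fun K _ _ ζ z => ?_⟩
  rw [Category.assoc, GrothendieckTopology.Point.toPresheafFiber_w]
  exact hall K ζ _ ((ptOf_map r' z).symm ▸ (ptOf z).2)

/-- maximal points are dense -/
theorem exists_max_specializes (X : Scheme.{u}) (y : X) : ∃ x : X, (∀ g : X, g ⤳ x → g = x) ∧ x ⤳ y := by
  have hcomp := irreducibleComponent_mem_irreducibleComponents y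
  have hgen := hcomp.1.isGenericPoint_genericPoint_closure
  rw [(isClosed_of_mem_irreducibleComponents _ hcomp).closure_eq] at hgen
  refine ⟨_, fun g hg => ?_, hgen.specializes mem_irreducibleComponent⟩
  have h2 : irreducibleComponent y ⊆ closure {g} := by
    rw [← hgen.def]
    exact closure_minimal (Set.singleton_subset_iff.2 (specializes_iff_mem_closure.1 hg)) isClosed_closure
  have h3 := hcomp.2 isIrreducible_singleton.closure h2 (subset_closure rfl)
  exact (hg.antisymm (hgen.specializes h3)).eq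

/-- an adic system of constructible sheaves is locally constant on a dense open -/
theorem exists_dense_open_of_isAdic [IsNoetherianRing Λ] [IsNoetherian X] {I : Ideal Λ}
    {F : ARSys.PS (EtModW.Mod Λ X)} (hF : ARSys.IsAdic I F) (hc : ∀ n : ℕ, EtModW.IsConstructible Λ (F.obj (op n))) :
    ∃ U : X.Opens, Dense (U : Set X) ∧ ∀ n : ℕ, EtModW.IsFTLocConst Λ ((EtModW.pull Λ U.ι).obj (F.obj (op n))) := by
  choose O hxO hO using fun x : {x : X // ∀ g : X, g ⤳ x → g = x} => exists_open_constBy_of_isAdic hF hc x.2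
  refine ⟨⨆ x, O x, fun y => ?_, fun n => isFTLocConst_of_constBy _ fun y => ?_⟩
  · obtain ⟨x, hx, hxy⟩ := exists_max_specializes X y
    exact hxy.mem_closed isClosed_closure (subset_closure (Opens.mem_iSup.2 ⟨⟨x, hx⟩, hxO _⟩))
  · let ι : (⨆ x, O x : X.Opens).toScheme ⟶ X := (⨆ x, O x : X.Opens).ι
    obtain ⟨x, hx⟩ := Opens.mem_iSup.1 y.2
    obtain ⟨U, p, M, hM, φ, hp, hφ⟩ := hO x n y.1 hx
    obtain ⟨w, -, hw⟩ := Scheme.Pullback.exists_preimage_pullback (f := U.hom) (g := ι) p y hp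
    exact ⟨(EtCoh.bc ι).obj U, w, M, hM, _, hw, constBy_pull ι hφ⟩

end Groth.Agent.ModWLib
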