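import Groth.Agent.ModWLib.LCNear

/-! adic systems of constructible sheaves are lisse on a finite stratification -/

set_option autoImplicit false
set_option linter.style.haveILetI false
set_option linter.unusedSectionVars false

universe u

open CategoryTheory CategoryTheory.Limits AlgebraicGeometry Opposite Topology TopologicalSpace Groth.Agent.EtFound

namespace Groth.Agent.ModWLib

set_option backward.isDefEq.respectTransparency.types false

variable {Λ : Type (u + 1)} [CommRing Λ]

/-- on a noetherian scheme an adic system of constructible sheaves is lisse along finitely many strata of a closed set -/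
theorem exists_strata_of_isAdic [IsNoetherianRing Λ] {X : Scheme.{u}} [IsNoetherian X] {I : Ideal Λ}
    {F : ARSys.PS (EtModW.Mod Λ X)} (hF : ARSys.IsAdic I F) (hc : ∀ n : ℕ, EtModW.IsConstructible Λ (F.obj (op n)))
    (C : Closeds X) :
    ∃ (m : ℕ) (T : Fin m → Scheme.{u}) (g : ∀ i, T i ⟶ X), (∀ i, IsImmersion (g i)) ∧
      Pairwise (fun i j => Disjoint (Set.range (g i).base) (Set.range (g j).base)) ∧
      (⋃ i, Set.range (g i).base) = (C : Set X) ∧
      ∀ (i : Fin m) (n : ℕ), EtModW.IsFTLocConst Λ ((EtModW.pull Λ (g i)).obj (F.obj (op n))) := by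
  induction C using WellFoundedLT.induction with
  | ind C ih =>
  rcases Set.eq_empty_or_nonempty (C : Set X) with hC | ⟨x, hx⟩
  · exact ⟨0, Fin.elim0, fun i => i.elim0, fun i => i.elim0, fun i => i.elim0, by simp [hC], fun i => i.elim0⟩
  obtain ⟨R, i, hi, hr⟩ := exists_immersion_range C.isClosed.isLocallyClosed
  have hce : IsClosedEmbedding i.base := ⟨i.isEmbedding, hr.symm ▸ C.isClosed⟩
  haveI : IsLocallyNoetherian R := LocallyOfFiniteType.isLocallyNoetherian i
  haveI : CompactSpace R := hce.compactSpace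
  haveI : IsNoetherian R := ⟨⟩
  let G : ARSys.PS (EtModW.Mod Λ R) := F ⋙ EtModW.pull Λ i
  obtain ⟨U, hU, hUl⟩ := exists_dense_open_of_isAdic (F := G) (isAdic_map (pullPushModAdj Λ i) hF)
    fun n => isConstructible_pull i (hc n)
  let C' : Closeds X := ⟨i.base '' (U : Set R)ᶜ, hce.isClosedMap _ U.2.isClosed_compl⟩
  have hlt : C' < C := by
    refine lt_of_le_of_ne (fun y hy => hr.le (Set.image_subset_range _ _ hy)) fun h => ?_
    obtain ⟨r, hr'⟩ := hr.ge hx
    obtain ⟨q, hq⟩ := hU.nonempty_iff.2 ⟨r⟩
    obtain ⟨q', hq', e⟩ := (h.symm ▸ hr.le ⟨q, rfl⟩ : i.base q ∈ C')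
    exact hq' (hce.injective e ▸ hq)
  obtain ⟨m, T, g, hg, hd, hu, hl⟩ := ih C' hlt
  let T' : Fin (m + 1) → Scheme.{u} := Fin.cons U.toScheme T
  let g' : ∀ j, T' j ⟶ X := Fin.cases (motive := fun j => T' j ⟶ X) (U.ι ≫ i) g
  have hr0 : Set.range (g' 0).base = i.base '' (U : Set R) := by
    show Set.range (U.ι ≫ i).base = _
    rw [Scheme.Hom.comp_base, TopCat.coe_comp, Set.range_comp, Scheme.Opens.range_ι]
  have hsub : ∀ j, Set.range (g j).base ⊆ i.base '' (U : Set R)ᶜ := fun j =>
    (Set.subset_iUnion (fun k => Set.range (g k).base) j).trans hu.le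
  have hdj : ∀ j, Disjoint (Set.range (g' 0).base) (Set.range (g j).base) := fun j => by
    refine (Set.disjoint_of_subset_right (hsub j) ?_)
    rw [hr0]
    exact (Set.disjoint_image_iff hce.injective).2 disjoint_compl_right
  have hg' : ∀ j, IsImmersion (g' j) := Fin.cases (inferInstanceAs (IsImmersion (U.ι ≫ i))) hg
  have hl' : ∀ j (n : ℕ), EtModW.IsFTLocConst Λ ((EtModW.pull Λ (g' j)).obj (F.obj (op n))) :=
    Fin.cases (fun n => isFTLocConst_of_iso ((pullCompMod Λ U.ι i).app (F.obj (op n))).symm (hUl n)) hl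
  refine ⟨m + 1, T', g', hg', ?_, ?_, hl'⟩
  · intro a b hab
    induction a using Fin.cases with
    | zero =>
      induction b using Fin.cases with
      | zero => exact absurd rfl hab
      | succ b => exact hdj b
    | succ a =>
      induction b using Fin.cases with
      | zero => exact (hdj a).symm
      | succ b => exact hd fun h => hab (congrArg Fin.succ h)
  · have hun : ∀ (S : Fin (m + 1) → Set X), (⋃ j, S j) = S 0 ∪ ⋃ j : Fin m, S j.succ := fun S => by
      ext y
      simp only [Set.mem_iUnion, Set.mem_union, Fin.exists_fin_succ]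
    rw [hun]
    show Set.range (g' 0).base ∪ (⋃ j, Set.range (g j).base) = _
    rw [hu, hr0]
    show i.base '' (U : Set R) ∪ i.base '' (U : Set R)ᶜ = _
    rw [← Set.image_union, Set.union_compl_self, Set.image_univ]
    exact hr

end Groth.Agent.ModWLib
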