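import Groth.Prelude.Def_EtModD2
import Groth.Agent.ModWLib.Ext

/-! tensor products of finite type locally constant sheaves of modules -/

set_option autoImplicit false
set_option linter.style.haveILetI false
set_option backward.isDefEq.respectTransparency false

universe u

open CategoryTheory CategoryTheory.Limits AlgebraicGeometry Opposite Groth.Agent.EtFound MonoidalCategory

open scoped TensorProduct

namespace Groth.Agent.ModWLib

set_option backward.isDefEq.respectTransparency.types false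

variable {Λ : Type (u + 1)} [CommRing Λ] {X : Scheme.{u}}

theorem tensorPre_map_tmul (P Q : X.Etaleᵒᵖ ⥤ ModuleCat.{u + 1} Λ) {V W : X.Etale} (c : W ⟶ V)
    (a : P.obj (op V)) (b : Q.obj (op V)) :
    (P ⊗ Q).map c.op (a ⊗ₜ[Λ] b) = P.map c.op a ⊗ₜ[Λ] Q.map c.op b := rfl

/-- the constant family of a tensor product is bijective on the stalks of the presheaf tensor product -/
theorem bijective_germ_tensor {F G : EtModW.Mod Λ X} {U : X.Etale} {M N : ModuleCat.{u + 1} Λ}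
    {φ : M ⟶ F.obj.obj (op U)} {ψ : N ⟶ G.obj.obj (op U)}
    {Ω : Type u} [Field Ω] [IsSepClosed Ω] (ξ : Spec (CommRingCat.of Ω) ⟶ X)
    (z : (Scheme.pointSmallEtale ξ).fiber.obj U)
    (hφ : Function.Bijective (φ ≫ (Scheme.pointSmallEtale ξ).toPresheafFiber U z F.obj))
    (hψ : Function.Bijective (ψ ≫ (Scheme.pointSmallEtale ξ).toPresheafFiber U z G.obj)) :
    Function.Bijective ((φ ⊗ₘ ψ : M ⊗ N ⟶ (F.obj ⊗ G.obj).obj (op U)) ≫
      (Scheme.pointSmallEtale ξ).toPresheafFiber U z (F.obj ⊗ G.obj)) := by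
  let Φ := Scheme.pointSmallEtale ξ
  let eF : M ≃ₗ[Λ] _ := LinearEquiv.ofBijective (φ ≫ Φ.toPresheafFiber U z F.obj).hom hφ
  let eG : N ≃ₗ[Λ] _ := LinearEquiv.ofBijective (ψ ≫ Φ.toPresheafFiber U z G.obj).hom hψ
  let pF : ∀ (V : X.Etale) (v : Φ.fiber.obj V), F.obj.obj (op V) →ₗ[Λ] M :=
    fun V v => eF.symm.toLinearMap.comp (Φ.toPresheafFiber V v F.obj).hom
  let pG : ∀ (V : X.Etale) (v : Φ.fiber.obj V), G.obj.obj (op V) →ₗ[Λ] N :=
    fun V v => eG.symm.toLinearMap.comp (Φ.toPresheafFiber V v G.obj).hom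
  let ν : Φ.presheafFiber.obj (F.obj ⊗ G.obj) ⟶ M ⊗ N :=
    Φ.presheafFiberDesc (fun V v => ModuleCat.ofHom (TensorProduct.map (pF V v) (pG V v)))
      (fun {V V'} c v => by
        refine ModuleCat.hom_ext (TensorProduct.ext' fun a b => ?_)
        show pF _ v (F.obj.map c.op a) ⊗ₜ[Λ] pG _ v (G.obj.map c.op b) = _
        simp only [pF, pG, LinearMap.comp_apply]
        rw [Φ.toPresheafFiber_w_apply, Φ.toPresheafFiber_w_apply]
        rfl)
  let μ : M ⊗ N ⟶ Φ.presheafFiber.obj (F.obj ⊗ G.obj) :=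
    (φ ⊗ₘ ψ : M ⊗ N ⟶ (F.obj ⊗ G.obj).obj (op U)) ≫ Φ.toPresheafFiber U z (F.obj ⊗ G.obj)
  have hμ : ∀ (m : M) (n : N), μ (m ⊗ₜ[Λ] n) = Φ.toPresheafFiber U z (F.obj ⊗ G.obj) (φ m ⊗ₜ[Λ] ψ n) := fun m n => rfl
  refine ⟨Function.LeftInverse.injective (g := ν) fun y => ?_, fun y => ?_⟩
  · show ν (μ y) = y
    induction y using TensorProduct.induction_on with
    | zero => rw [map_zero, map_zero]
    | tmul m n =>
      rw [hμ]
      refine (ConcreteCategory.congr_hom (Φ.toPresheafFiber_presheafFiberDesc (P := F.obj ⊗ G.obj) _ _ U z)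
        (φ m ⊗ₜ[Λ] ψ n)).trans ?_
      exact congrArg₂ (· ⊗ₜ[Λ] ·) (eF.symm_apply_apply m) (eG.symm_apply_apply n)
    | add a b ha hb => rw [map_add, map_add, ha, hb]
  · obtain ⟨V, v, t, rfl⟩ := Φ.toPresheafFiber_jointly_surjective y
    show ∃ x, μ x = _
    induction t using TensorProduct.induction_on with
    | zero => exact ⟨0, (map_zero _).trans (map_zero _).symm⟩
    | add a b ha hb =>
      obtain ⟨x, hx⟩ := ha
      obtain ⟨x', hx'⟩ := hb
      exact ⟨x + x', by rw [map_add, hx, hx']; exact (map_add _ _ _).symm⟩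
    | tmul a b =>
      obtain ⟨m, hm⟩ := hφ.2 (Φ.toPresheafFiber V v F.obj a)
      obtain ⟨n, hn⟩ := hψ.2 (Φ.toPresheafFiber V v G.obj b)
      refine ⟨m ⊗ₜ[Λ] n, ?_⟩
      rw [hμ]
      obtain ⟨⟨W, w⟩, ⟨c, hc⟩, ⟨c', hc'⟩, -⟩ := IsCofilteredOrEmpty.cone_objs
        (Φ.fiber.elementsMk U z) (Φ.fiber.elementsMk V v)
      obtain ⟨d, hd⟩ : ∃ d : W ⟶ U, Φ.fiber.map d w = z := ⟨c, hc⟩
      obtain ⟨d', hd'⟩ : ∃ d' : W ⟶ V, Φ.fiber.map d' w = v := ⟨c', hc'⟩
      have e1 : Φ.toPresheafFiber W w F.obj (F.obj.map d.op (φ m)) = Φ.toPresheafFiber W w F.obj (F.obj.map d'.op a) := by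
        rw [Φ.toPresheafFiber_w_apply, Φ.toPresheafFiber_w_apply, hd, hd']
        exact hm
      obtain ⟨W₁, g₁, w₁, hw₁, h1⟩ := (Φ.toPresheafFiber_eq_iff' W w _ _).1 e1
      have e2 : Φ.toPresheafFiber W₁ w₁ G.obj (G.obj.map g₁.op (G.obj.map d.op (ψ n))) =
          Φ.toPresheafFiber W₁ w₁ G.obj (G.obj.map g₁.op (G.obj.map d'.op b)) := by
        simp only [Φ.toPresheafFiber_w_apply]
        rw [hw₁, hd, hd']
        exact hn
      obtain ⟨W₂, g₂, w₂, hw₂, h2⟩ := (Φ.toPresheafFiber_eq_iff' W₁ w₁ _ _).1 e2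
      rw [← hd, ← hd', ← Φ.toPresheafFiber_w_apply, ← Φ.toPresheafFiber_w_apply, tensorPre_map_tmul, tensorPre_map_tmul,
        ← hw₁, ← Φ.toPresheafFiber_w_apply, ← Φ.toPresheafFiber_w_apply, tensorPre_map_tmul, tensorPre_map_tmul,
        ← hw₂, ← Φ.toPresheafFiber_w_apply, ← Φ.toPresheafFiber_w_apply, tensorPre_map_tmul, tensorPre_map_tmul,
        h1, h2]

/-- tensor products of constant families -/
theorem constBy_tensor {F G : EtModW.Mod Λ X} {U : X.Etale} {M N : ModuleCat.{u + 1} Λ}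
    {φ : M ⟶ F.obj.obj (op U)} (hφ : ConstBy F φ) {ψ : N ⟶ G.obj.obj (op U)} (hψ : ConstBy G ψ) :
    ConstBy (((EtModD.tensorBi Λ X).obj F).obj G)
      ((φ ⊗ₘ ψ : M ⊗ N ⟶ (F.obj ⊗ G.obj).obj (op U)) ≫
        (toSheafify X.smallEtaleTopology (F.obj ⊗ G.obj)).app (op U)) := by
  intro Ω _ _ ξ z
  let Φ := Scheme.pointSmallEtale ξ
  haveI : IsIso (Φ.presheafFiber.map (toSheafify X.smallEtaleTopology (F.obj ⊗ G.obj))) := inferInstance
  have e := congrArg ((φ ⊗ₘ ψ : M ⊗ N ⟶ (F.obj ⊗ G.obj).obj (op U)) ≫ ·)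
    (Φ.toPresheafFiber_naturality (toSheafify X.smallEtaleTopology (F.obj ⊗ G.obj)) U z)
  have hb := ((ConcreteCategory.isIso_iff_bijective
    (Φ.presheafFiber.map (toSheafify X.smallEtaleTopology (F.obj ⊗ G.obj)))).1 inferInstance).comp
      (bijective_germ_tensor ξ z (hφ Ω ξ z) (hψ Ω ξ z))
  refine Eq.mp (congrArg Function.Bijective (funext fun x => ?_)) hb
  exact ConcreteCategory.congr_hom (e.trans (Category.assoc _ _ _).symm) x

/-- tensor products of finite type locally constant sheaves -/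
theorem isFTLocConst_tensor {F G : EtModW.Mod Λ X} (hF : EtModW.IsFTLocConst Λ F) (hG : EtModW.IsFTLocConst Λ G) :
    EtModW.IsFTLocConst Λ (((EtModD.tensorBi Λ X).obj F).obj G) := by
  refine isFTLocConst_of_constBy _ fun x => ?_
  obtain ⟨Ω, _, _, ξ, U, u, M, _, N, _, φ, ψ, hξ, hφ, hψ⟩ := exists_common hF hG x
  exact ⟨U, ptOf u, M ⊗ N, (inferInstance : Module.Finite Λ (M ⊗[Λ] N)), _, (hom_ptOf u).trans hξ,
    constBy_tensor hφ hψ⟩

end Groth.Agent.ModWLib
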